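import Mathlib

/-!
A prime whose element acts fixed-point-freely on an elementary abelian group of order 2^11 forces a Sylow congruence.
-/

set_option autoImplicit false

namespace CfsgLib.Fi22Fusion

/-- the numbers of Sylow subgroups allowed for a group of order `N` -/
def sylowTest (N p : ℕ) : Bool :=
  [1, 23, 89, 2047].all fun c => (List.range p).all fun j =>
    !(decide (p ∣ c ∧ c * j ∣ N ∧ j ∣ p - 1 ∧ N / (c * j) % p = 1))

theorem test_276 : sylowTest (276 * 443520) 23 = true := by decide +kernel
theorem test_2047 : sylowTest (2047 * 443520) 89 = true := by decide +kernel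

theorem dvd_2047 : ∀ c, c ∣ 2047 → c ∈ [1, 23, 89, 2047] := by
  intro c hc
  rw [show (2047 : ℕ) = 23 * 89 from rfl, Nat.dvd_mul] at hc
  obtain ⟨a, b, ha, hb, rfl⟩ := hc
  rcases (Nat.dvd_prime (by norm_num)).mp ha with rfl | rfl <;>
    rcases (Nat.dvd_prime (by norm_num)).mp hb with rfl | rfl <;> simp

variable {A H : Type*} [Group A] [Group H] [Finite A] [Finite H] [MulDistribMulAction H A]

/-- the fixed points of an element -/
def fixedSub (h : H) : Subgroup A where
  carrier := {a | h • a = a}
  one_mem' := smul_one h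
  mul_mem' {a b} (ha : h • a = a) (hb : h • b = b) := by show h • (a * b) = a * b; rw [smul_mul', ha, hb]
  inv_mem' {a} (ha : h • a = a) := by show h • a⁻¹ = a⁻¹; rw [smul_inv', ha]

/-- no group of that order acts faithfully -/
theorem not_faithful (hf : ∀ h : H, (∀ a : A, h • a = a) → h = 1) (hA : Nat.card A = 2 ^ 11) {p N : ℕ}
    (hp : p.Prime) (hpA : 2 ^ 11 % p = 1) (hord : ∀ i < 11, 2 ^ i % p = 1 → i = 0) (hN : Nat.card H = N)
    (hdvd : p ∣ N) (hsq : ¬ p ^ 2 ∣ N) (htest : sylowTest N p = true) : False := by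
  classical
  haveI : Fact p.Prime := ⟨hp⟩
  obtain ⟨h, hh⟩ := exists_prime_orderOf_dvd_card' (G := H) p (hN ▸ hdvd)
  set P := Subgroup.zpowers h with hP
  have hPc : Nat.card P = p := by rw [hP, Nat.card_zpowers, hh]
  have hPp : IsPGroup p P := IsPGroup.of_card (n := 1) (by rw [hPc, pow_one])
  have hfix : ∀ a : A, h • a = a → a = 1 := by
    intro a ha
    have hm := hPp.card_modEq_card_fixedPoints (α := A)
    have hset : MulAction.fixedPoints P A = (fixedSub (A := A) h : Set A) := by
      ext x
      refine ⟨fun hx => hx ⟨h, Subgroup.mem_zpowers h⟩, fun hx g => ?_⟩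
      obtain ⟨g, hg⟩ := g
      obtain ⟨k, rfl⟩ := hg
      show h ^ k • x = x
      exact (MulAction.mem_stabilizer_iff.mp
        ((MulAction.stabilizer H x).zpow_mem (MulAction.mem_stabilizer_iff.mpr hx) k) :)
    rw [hset] at hm
    change Nat.card A % p = Nat.card (fixedSub (A := A) h) % p at hm
    obtain ⟨i, hi, hF⟩ := (Nat.dvd_prime_pow Nat.prime_two).mp (hA ▸ Subgroup.card_subgroup_dvd_card (fixedSub (A := A) h))
    rw [hA, hF, hpA] at hm
    rcases lt_or_eq_of_le hi with hlt | rfl
    · rw [hord i hlt hm.symm, pow_zero] at hF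
      have : (fixedSub (A := A) h) = ⊥ := Subgroup.eq_bot_of_card_eq _ hF
      exact Subgroup.mem_bot.mp (this ▸ ha)
    · exfalso
      have htop : fixedSub (A := A) h = ⊤ := Subgroup.eq_top_of_card_eq _ (by rw [hF, hA])
      have h1 : h = 1 := hf h fun x => (htop ▸ Subgroup.mem_top x : x ∈ fixedSub (A := A) h)
      rw [h1, orderOf_one] at hh
      exact hp.one_lt.ne hh
  set C := Subgroup.centralizer ({h} : Set H) with hC
  have hfree : ∀ c ∈ C, ∀ a : A, a ≠ 1 → c • a = a → c = 1 := by
    intro c hc a ha hca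
    have hcomm := Subgroup.mem_centralizer_singleton_iff.mp hc
    -- the fixed space of c is moved to itself by h
    let W := fixedSub (A := A) c
    have hW : ∀ g : P, ∀ x ∈ W, (g : H) • x ∈ W := by
      rintro ⟨g, k, rfl⟩ x hx
      show c • (h ^ k • x) = h ^ k • x
      rw [← mul_smul, ((show Commute c h from hcomm).zpow_right k).eq, mul_smul]
      exact congrArg _ hx
    letI : MulAction P W :=
      { smul := fun g x => ⟨(g : H) • (x : A), hW g x x.2⟩
        one_smul := fun x => Subtype.ext (one_smul H (x : A))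
        mul_smul := fun g g' x => Subtype.ext (mul_smul (g : H) (g' : H) (x : A)) }
    have hm := hPp.card_modEq_card_fixedPoints (α := W)
    have hone : Nat.card (MulAction.fixedPoints P W) = 1 := by
      rw [Nat.card_eq_one_iff_exists]
      refine ⟨⟨1, fun g => Subtype.ext (smul_one (g : H))⟩, fun x => Subtype.ext (Subtype.ext ?_)⟩
      exact hfix _ (congrArg Subtype.val (x.2 ⟨h, Subgroup.mem_zpowers h⟩))
    rw [hone] at hm
    obtain ⟨i, hi, hF⟩ := (Nat.dvd_prime_pow Nat.prime_two).mp (hA ▸ Subgroup.card_subgroup_dvd_card W)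
    change Nat.card W % p = 1 % p at hm
    rw [hF, Nat.mod_eq_of_lt hp.one_lt] at hm
    rcases lt_or_eq_of_le hi with hlt | rfl
    · rw [hord i hlt hm, pow_zero] at hF
      have hbot : W = ⊥ := Subgroup.eq_bot_of_card_eq _ hF
      exact absurd (Subgroup.mem_bot.mp (hbot ▸ (show a ∈ W from hca))) ha
    · have htop : W = ⊤ := Subgroup.eq_top_of_card_eq _ (by rw [hF, hA])
      exact hf c fun x => (htop ▸ Subgroup.mem_top x : x ∈ W)
  have hCdvd : Nat.card C ∣ 2047 := by
    let S := {a : A // a ≠ 1}
    letI : MulAction C S :=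
      { smul := fun c x => ⟨(c : H) • (x : A), fun e => x.2 (by
          have := congrArg ((c : H)⁻¹ • ·) e
          simpa using this)⟩
        one_smul := fun x => Subtype.ext (one_smul H (x : A))
        mul_smul := fun c c' x => Subtype.ext (mul_smul (c : H) (c' : H) (x : A)) }
    have hst : ∀ x : S, MulAction.stabilizer C x = ⊥ := fun x => by
      rw [Subgroup.eq_bot_iff_forall]
      exact fun c hc => Subtype.ext (hfree c c.2 x x.2 (congrArg Subtype.val hc))
    have hS : Nat.card S = 2047 := by
      have h1 : Nat.card S = Nat.card A - 1 := by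
        haveI := Fintype.ofFinite A
        simp [S, Nat.card_eq_fintype_card, Fintype.card_subtype_compl]
      rw [h1, hA]; norm_num
    rw [← hS, Nat.card_congr (MulAction.selfEquivOrbitsQuotientProd hst), Nat.card_prod]
    exact dvd_mul_left ..
  have hpC : p ∣ Nat.card C := by
    rw [← hPc]
    refine Subgroup.card_dvd_of_le fun g hg => ?_
    obtain ⟨k, rfl⟩ := hg
    exact Subgroup.mem_centralizer_singleton_iff.mpr ((Commute.refl h).zpow_left k).eq
  obtain ⟨S, hS⟩ : ∃ S : Sylow p H, (S : Subgroup H) = P := by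
    refine ⟨hPp.toSylow ?_, rfl⟩
    intro hd
    have := Subgroup.card_mul_index P
    rw [hPc, hN] at this
    exact hsq (this ▸ by rw [pow_two]; exact mul_dvd_mul_left p hd)
  set M := Subgroup.normalizer (P : Set H) with hM
  have hle : C ≤ M := by
    intro c hc
    have hcomm : Commute c h := Subgroup.mem_centralizer_singleton_iff.mp hc
    rw [Subgroup.mem_normalizer_iff]
    intro g
    constructor
    · rintro ⟨k, rfl⟩
      exact ⟨k, by show h ^ k = c * h ^ k * c⁻¹; rw [(hcomm.zpow_right k).eq, mul_inv_cancel_right]⟩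
    · rintro ⟨k, hk⟩
      refine ⟨k, ?_⟩
      show h ^ k = g
      replace hk : h ^ k = c * g * c⁻¹ := hk
      have e : g = c⁻¹ * h ^ k * c := by rw [hk]; group
      rw [e, mul_assoc, ← (hcomm.zpow_right k).eq, inv_mul_cancel_left]
  haveI : IsCyclic P := isCyclic_of_prime_card hPc
  have hker : (P.normalizerMonoidHom).ker = C.subgroupOf M := by
    rw [Subgroup.normalizerMonoidHom_ker]
    congr 1
    rw [hC, hP, Subgroup.zpowers_eq_closure, Subgroup.centralizer_closure]
  have hj : (C.subgroupOf M).index ∣ p - 1 := by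
    rw [← hker, Subgroup.index_ker]
    refine (Subgroup.card_subgroup_dvd_card _).trans ?_
    rw [IsCyclic.card_mulAut, hPc, Nat.totient_prime hp]
  have hMc : Nat.card M = Nat.card C * (C.subgroupOf M).index := by
    rw [← Subgroup.card_mul_index (C.subgroupOf M), Nat.card_congr (Subgroup.subgroupOfEquivOfLe hle).toEquiv]
  have hn : Nat.card (Sylow p H) = M.index := by rw [Sylow.card_eq_index_normalizer S, hM, ← hS]; rfl
  have hmod := card_sylow_modEq_one p H
  have hMN := Subgroup.card_mul_index M
  rw [hN, hMc, ← hn] at hMN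
  set j := (C.subgroupOf M).index
  have hjlt : j < p := by
    have := Nat.le_of_dvd (by have := hp.two_le; omega) hj
    have := hp.two_le; omega
  have ht := List.all_eq_true.mp htest (Nat.card C) (dvd_2047 _ hCdvd)
  have ht' := List.all_eq_true.mp ht j (List.mem_range.mpr hjlt)
  simp only [Bool.not_eq_true', decide_eq_false_iff_not] at ht'
  refine ht' ⟨hpC, ⟨Nat.card (Sylow p H), hMN.symm⟩, hj, ?_⟩
  rw [← hMN, Nat.mul_div_cancel_left _ (Nat.pos_of_ne_zero fun e => by
    rw [e, zero_mul] at hMN
    exact hsq (hMN ▸ dvd_zero _))]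
  exact Eq.trans hmod (Nat.mod_eq_of_lt hp.one_lt)

end CfsgLib.Fi22Fusion
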