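import Cfsg.Agent.Lib.Fi22Fusion.Defs

/-!
Checks on the normalizer of the elementary abelian subgroup of order 2^11.
-/

set_option autoImplicit false
set_option Elab.async false
set_option maxRecDepth 20000

namespace CfsgLib.Fi22Fusion

open CfsgLib.CosetEnum CfsgLib.Fi23Syl
open CfsgLib.Fi22Syl (zVec)

theorem norm_conj : allBelow 5 (fun k => allBelow 11 fun j =>
    same (nW k ++ bW j) (aW (nth (nthWord nRows k) j 0) ++ nW k) &&
      Nat.blt (nth (nthWord nRows k) j 0) 2048) = true := by decide +kernel
theorem norm_letters : allBelow 5 (fun k => (nW k).all fun g => Nat.blt g 9) = true := by decide +kernel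
theorem level_ok : allBelow 4 (fun i => (nLevels.getD i []).all (levelOK i)) = true := by decide +kernel
theorem level_size : (List.range 4).map (fun i => (nLevels.getD i []).length) = [22, 21, 20, 3] := by decide +kernel
theorem level_nodup : allBelow 4 (fun i => noDup ((nLevels.getD i []).map Prod.fst)) = true := by decide +kernel
theorem level_allowed : allBelow 4 (fun i => (nLevels.getD i []).all fun p => memB p.1 (allowed i)) = true := by
  decide +kernel
theorem allowed_size : (List.range 6).map (fun i => (allowed i).length) = [22, 21, 20, 3, 2, 16] := by decide +kernel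
theorem base_ok : allBelow 6 (fun i => memB (bp i) (allowed i)) = true ∧ nBase.length = 6 ∧ bp 0 = 1 := by decide +kernel
theorem steps_ok : stepsOK nBase nSteps = true := by decide +kernel
theorem trans_basis : allBelow 11 (fun j => memB (2 ^ j) nTrans) = true := by decide +kernel
theorem trans_nodup : noDup nTrans = true ∧ nTrans.length = 22 ∧ memB zVec nTrans = false ∧
    (nTrans.all fun v => Nat.blt v 2048) = true := by decide +kernel
theorem tree_ok : treeOK (nReps.map fun r => 2 ^ r) nTree = true := by decide +kernel
theorem masks_cover : allBelow 2048 (fun v => Nat.beq v 0 ||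
    (List.range 6).any fun c => (nth nMasks c 0).testBit v) = true := by decide +kernel
theorem reps_lt : nReps.all (fun r => Nat.blt r 2048) = true ∧ nReps.length = 6 ∧ nth nReps 0 0 = zVec := by decide +kernel
theorem opts_ok_0 : (List.range' 0 8).all optOK = true := by decide +kernel
theorem opts_ok_8 : (List.range' 8 8).all optOK = true := by decide +kernel
theorem opts_ok_16 : (List.range' 16 8).all optOK = true := by decide +kernel
theorem opts_ok_24 : (List.range' 24 8).all optOK = true := by decide +kernel
theorem opts_ok : allBelow 32 optOK = true := by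
  refine List.all_eq_true.mpr fun x hx => ?_
  rw [List.mem_range] at hx
  have piece : ∀ a, (List.range' a 8).all optOK = true → a ≤ x → x < a + 8 → optOK x = true :=
    fun a h h1 h2 => List.all_eq_true.mp h x (List.mem_range'_1.mpr ⟨h1, h2⟩)
  by_cases h1 : x < 8
  · exact piece 0 opts_ok_0 (Nat.zero_le x) h1
  by_cases h2 : x < 16
  · exact piece 8 opts_ok_8 (by omega) (by omega)
  by_cases h3 : x < 24
  · exact piece 16 opts_ok_16 (by omega) (by omega)
  exact piece 24 opts_ok_24 (by omega) (by omega)
theorem sizes_ok : [0, 1, 2, 7, 31].map sizeX = [1, 23, 23, 276, 2047] := by decide +kernel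

end CfsgLib.Fi22Fusion
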