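import Cfsg.Prelude.Def_CaseTheorems
import Cfsg.Agent.Lib.TypeM22.Invol
import Cfsg.Agent.Lib.TypeM22.Main
import Cfsg.Agent.Lib.Fi22Mult.Main
import Cfsg.Agent.Lib.ThreeTransp.Main
import Cfsg.Agent.Lib.Schur.StemTwoUnique
import Cfsg.Agent.Lib.Fi22Syl.Quot

/-!
A quasisimple double cover of a group of type M(22) is the centralizer of a transposition of Fi23.
-/

set_option autoImplicit false
set_option linter.unusedSectionVars false

namespace CfsgLib.Fi22Fusion

open CfsgLib.CosetEnum CfsgLib.Fi23Syl Cfsg.Spor CfsgLib.ThreeTransp CfsgLib.ThreeTransp.Relations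
open CfsgLib.Fi23Pres (subA zSub coverZ transClass)
open CfsgLib.M23 (toFi22 toFi22_surjective)
open scoped commutatorElement

theorem toFi22_stem : Cfsg.IsStemExtension toFi22 ∧ Nat.card toFi22.ker = 2 := by
  refine ⟨⟨toFi22_surjective, by rw [CfsgLib.Fi22Syl.toFi22_ker, Fi23Pres.center_eq], ?_⟩, CfsgLib.Fi22Syl.ker_card⟩
  rw [show commutator subA = ⊤ from CfsgLib.M23.subA_perfect.1]
  exact le_top

/-- the double cover, with the commuting products that meet every involution -/
theorem exists_cover {C Q : Type*} [Group C] [Finite C] [Group Q] [Finite Q] (π : C →* Q) (hπ : Function.Surjective π)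
    (hC : Cfsg.IsQuasisimple C) (hk : π.ker ≤ Subgroup.center C) (hk2 : Nat.card π.ker = 2) {E : Set Q}
    (hE : Cfsg.IsThreeTranspositionClass E) (ht : Cfsg.IsOfTypeM22 Q E) :
    ∃ θ : subA ≃* C, θ zSub ∈ π.ker ∧
      ∀ x : subA, x * x = 1 → ∃ u : subA, ((u * x * u⁻¹ : subA) : Fi23) ∈ baseSub := by
  have hz : Subgroup.center C ≤ π.ker := fun z hz => by
    have : π z ∈ Subgroup.center Q := Subgroup.mem_center_iff.mpr fun q => by
      obtain ⟨c, rfl⟩ := hπ q
      rw [← map_mul, ← map_mul, Subgroup.mem_center_iff.mp hz c]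
    rwa [ht.1, Subgroup.mem_bot] at this
  have hker : π.ker = Subgroup.center C := le_antisymm hk hz
  haveI := hC.2
  haveI hQs : IsSimpleGroup Q := by
    let eq : C ⧸ Subgroup.center C ≃* Q :=
      (QuotientGroup.quotientMulEquivOfEq hker.symm).trans (QuotientGroup.quotientKerEquivOfSurjective π hπ)
    haveI : Nontrivial Q := eq.symm.toEquiv.nontrivial
    exact IsSimpleGroup.isSimpleGroup_of_surjective eq.toMonoidHom eq.surjective
  have hCp : commutator C = ⊤ := hC.1.1
  have hQp : commutator Q = ⊤ := by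
    have h := congrArg (Subgroup.map π) hCp
    rwa [commutator_def, Subgroup.map_commutator, Subgroup.map_top_of_surjective π hπ, ← commutator_def] at h
  haveI : IsSimpleGroup (commutator Q) := by
    let eq := (MulEquiv.subgroupCongr hQp).trans Subgroup.topEquiv
    haveI : Nontrivial (commutator Q) := eq.toEquiv.nontrivial
    exact IsSimpleGroup.isSimpleGroup_of_surjective eq.symm.toMonoidHom eq.symm.surjective
  have hnonab : ∃ x y : commutator Q, x * y ≠ y * x := by
    by_contra! hall
    have htop : Subgroup.center Q = ⊤ := eq_top_iff.mpr fun x _ => Subgroup.mem_center_iff.mpr fun y =>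
      congrArg Subtype.val (hall ⟨y, hQp ▸ Subgroup.mem_top y⟩ ⟨x, hQp ▸ Subgroup.mem_top x⟩)
    exact bot_ne_top (ht.1.symm.trans htop)
  have hprim : Cfsg.IsPrimitiveUnderConj E := primitive_of_simple_derived hnonab hE
  have hD : Cfsg.IsThreeTranspositionGroup E := ⟨hE.1, fun g d hd => class_conjClosed hE g d hd, hE.2.2⟩
  have X : CfsgLib.TypeM22.Ctx E := ⟨hD, hprim, ht⟩
  obtain ⟨e, he⟩ := CfsgLib.TypeM22.recognition hD hprim ht
  let τ : C →* Fi22 := e.symm.toMonoidHom.comp π
  have hτk : τ.ker = π.ker := by ext x; simp [τ, MonoidHom.mem_ker]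
  have hτ : Cfsg.IsStemExtension τ := ⟨e.symm.surjective.comp hπ, hτk ▸ hk, by rw [hCp]; exact le_top⟩
  obtain ⟨θ, hθ⟩ := CfsgLib.Schur.StemTwoUnique.exists_hom CfsgLib.Fi22Mult.fi22_perfect
    CfsgLib.Fi22Mult.hasSchurMultiplier toFi22_stem.1 toFi22_stem.2 hτ (by rw [hτk, hk2])
  have hlift : ∀ z : subA, π (θ z) = e (toFi22 z) := fun z => by
    rw [← hθ]
    exact (e.apply_symm_apply _).symm
  -- the lift is onto, as the cover is perfect
  have hsup : ∀ c : C, ∃ z ∈ Subgroup.center C, ∃ r ∈ θ.range, c = z * r := fun c => by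
    obtain ⟨a, ha⟩ := toFi22_surjective (e.symm (π c))
    refine ⟨c * (θ a)⁻¹, hk ?_, θ a, ⟨a, rfl⟩, by group⟩
    rw [MonoidHom.mem_ker, map_mul, map_inv, hlift, ha, e.apply_symm_apply, mul_inv_cancel]
  have hcomm : commutator C ≤ θ.range := by
    rw [commutator_def, Subgroup.commutator_le]
    intro x _ y _
    obtain ⟨z, hz', r, hr, rfl⟩ := hsup x
    obtain ⟨w, hw, s, hs, rfl⟩ := hsup y
    have hz'' : ∀ t, Commute z t := fun t => (Subgroup.mem_center_iff.mp hz' t).symm
    have hw' : ∀ t, Commute w t := fun t => (Subgroup.mem_center_iff.mp hw t).symm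
    have e : ⁅z * r, w * s⁆ = ⁅r, s⁆ := by
      rw [commutatorElement_def, commutatorElement_def, mul_inv_rev, mul_inv_rev]
      calc z * r * (w * s) * (r⁻¹ * z⁻¹) * (s⁻¹ * w⁻¹)
          = z * (r * w) * s * r⁻¹ * (z⁻¹ * (s⁻¹ * w⁻¹)) := by group
        _ = z * (w * r) * s * r⁻¹ * ((s⁻¹ * w⁻¹) * z⁻¹) := by rw [(hw' r).eq, (hz'' _).inv_left.eq]
        _ = z * (w * (r * s * r⁻¹ * s⁻¹)) * w⁻¹ * z⁻¹ := by group
        _ = z * ((r * s * r⁻¹ * s⁻¹) * w) * w⁻¹ * z⁻¹ := by rw [(hw' _).eq]
        _ = z * (r * s * r⁻¹ * s⁻¹) * z⁻¹ := by group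
        _ = r * s * r⁻¹ * s⁻¹ := by rw [(hz'' _).eq, mul_inv_cancel_right]
    rw [e, commutatorElement_def]
    exact mul_mem (mul_mem (mul_mem hr hs) (inv_mem hr)) (inv_mem hs)
  have hsurj : Function.Surjective θ := fun c => hcomm (hCp ▸ Subgroup.mem_top c)
  have hcard : Nat.card subA = Nat.card C := by
    rw [Subgroup.card_eq_card_quotient_mul_card_subgroup toFi22.ker, Subgroup.card_eq_card_quotient_mul_card_subgroup π.ker,
      toFi22_stem.2, hk2, Nat.card_congr (QuotientGroup.quotientKerEquivOfSurjective toFi22 toFi22_surjective).toEquiv,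
      Nat.card_congr (QuotientGroup.quotientKerEquivOfSurjective π hπ).toEquiv, Nat.card_congr e.toEquiv]
  haveI : Finite subA := inferInstance
  have hbij : Function.Bijective θ := (Nat.bijective_iff_surjective_and_card θ).mpr ⟨hsurj, hcard⟩
  refine ⟨MulEquiv.ofBijective θ hbij, ?_, ?_⟩
  · show π (θ zSub) = 1
    rw [hlift, show toFi22 zSub = 1 from
      MonoidHom.mem_ker.mp (by rw [CfsgLib.Fi22Syl.toFi22_ker]; exact Subgroup.mem_zpowers _), map_one]
  intro x hx
  have hin : ∀ y : subA, toFi22 y ∈ CfsgLib.Fi22Syl.img baseSub → (y : Fi23) ∈ baseSub := by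
    intro y hy
    obtain ⟨b, hb, eb⟩ := Subgroup.mem_map.mp hy
    have hk' : b⁻¹ * y ∈ toFi22.ker := by rw [MonoidHom.mem_ker, map_mul, map_inv, eb, inv_mul_cancel]
    have hm : ((b⁻¹ * y : subA) : Fi23) ∈ baseSub := by
      rcases CfsgLib.Fi22Syl.zKer_cases (CfsgLib.Fi22Syl.toFi22_ker ▸ hk') with h | h <;> rw [h]
      · exact one_mem _
      · exact CfsgLib.Fi22Syl.zSub_base
    have := mul_mem (Subgroup.mem_subgroupOf.mp hb) hm
    rwa [← Subgroup.coe_mul, mul_inv_cancel_left] at this
  by_cases ht1 : toFi22 x = 1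
  · exact ⟨1, hin _ (by rw [one_mul, inv_one, mul_one, ht1]; exact one_mem _)⟩
  obtain ⟨m, h1, h3, hprod⟩ := CfsgLib.TypeM22.decomp X (x := e (toFi22 x))
    (by rw [← map_mul, ← map_mul, hx, map_one, map_one])
    (fun h => ht1 (e.injective (h.trans (map_one e).symm)))
  -- products of commuting transpositions inside the elementary abelian subgroup
  have hperp : ∀ k < 11, bG k ∈ CfsgLib.M23.perp transClass coverZ := fun k hk => by
    refine ⟨(CfsgLib.Fi22Syl.bG_class hk).1, (CfsgLib.Fi22Syl.bG_class hk).2, ?_⟩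
    rw [← CfsgLib.Fi22Syl.aG_z, ← show aG (2 ^ k) = bG k from pUp_two_pow bG hk]
    exact aG_comm _ _
  let a : ℕ → subA := fun k => if h : k < 11 then ⟨bG k, CfsgLib.M23.perp_mem (hperp k h)⟩ else 1
  have hab : ∀ k < 11, (a k : Fi23) ∈ baseSub := fun k hk => by
    simp only [a, dif_pos hk]
    exact mem_baseSub.mpr ⟨2 ^ k, Nat.pow_lt_pow_right (n := 11) (by norm_num) hk, (pUp_two_pow bG hk).symm⟩
  have hP : CfsgLib.TypeM22.IsProd E m (e (toFi22 (((List.range m).map a).prod))) := by
    refine ⟨(List.range m).map fun k => e (toFi22 (a k)), ?_, by simp, ?_, ?_, ?_⟩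
    · refine List.Nodup.map_on (fun i hi j hj h => ?_) List.nodup_range
      have hi' : i < 11 := by have := List.mem_range.mp hi; omega
      have hj' : j < 11 := by have := List.mem_range.mp hj; omega
      have h' := e.injective h
      simp only [a, dif_pos hi', dif_pos hj'] at h'
      have hb := CfsgLib.M23.perp_eq (hperp i hi') (hperp j hj') h'
      have := aG_inj (Nat.pow_lt_pow_right (n := 11) (by norm_num) hi') (Nat.pow_lt_pow_right (n := 11) (by norm_num) hj')
        (show aG (2 ^ i) = aG (2 ^ j) by rw [show aG (2 ^ i) = bG i from pUp_two_pow bG hi',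
          show aG (2 ^ j) = bG j from pUp_two_pow bG hj', hb])
      exact Nat.pow_right_injective le_rfl this
    · intro y hy
      obtain ⟨k, hk, rfl⟩ := List.mem_map.mp hy
      have hk' : k < 11 := by have := List.mem_range.mp hk; omega
      rw [← he]
      simp only [a, dif_pos hk']
      exact ⟨_, CfsgLib.M23.toFi22_perp (hperp k hk'), rfl⟩
    · intro y hy y' hy'
      obtain ⟨k, hk, rfl⟩ := List.mem_map.mp hy
      obtain ⟨k', hk', rfl⟩ := List.mem_map.mp hy'
      have h1' : k < 11 := by have := List.mem_range.mp hk; omega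
      have h2' : k' < 11 := by have := List.mem_range.mp hk'; omega
      refine ((show Commute (a k) (a k') from Subtype.ext ?_).map toFi22).map e
      obtain ⟨u, -, hu⟩ := mem_baseSub.mp (hab k h1')
      obtain ⟨w, -, hw⟩ := mem_baseSub.mp (hab k' h2')
      show (a k : Fi23) * (a k' : Fi23) = (a k' : Fi23) * (a k : Fi23)
      rw [hu, hw, aG_comm]
    · rw [map_list_prod, map_list_prod, List.map_map, List.map_map]
      rfl
  obtain ⟨g, hg⟩ := isConj_iff.mp (CfsgLib.TypeM22.conj_of_prod X h1 h3 hprod hP)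
  obtain ⟨u, hu⟩ := toFi22_surjective (e.symm g)
  refine ⟨u, hin _ ?_⟩
  rw [map_mul, map_mul, map_inv, hu, show toFi22 x = e.symm (e (toFi22 x)) from (e.symm_apply_apply _).symm,
    ← map_inv, ← map_mul, ← map_mul, hg, e.symm_apply_apply]
  exact Subgroup.mem_map_of_mem _ (Subgroup.mem_subgroupOf.mpr (by
    have : ∀ l : List ℕ, (∀ k ∈ l, k < 11) → (((l.map a).prod : subA) : Fi23) ∈ baseSub := by
      intro l hl
      induction l with
      | nil => exact one_mem _
      | cons k l ih =>
        rw [List.map_cons, List.prod_cons, Subgroup.coe_mul]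
        exact mul_mem (hab k (hl k (List.mem_cons_self ..))) (ih fun j hj => hl j (List.mem_cons_of_mem _ hj))
    exact this _ fun k hk => by have := List.mem_range.mp hk; omega))

end CfsgLib.Fi22Fusion
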