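import Cfsg.Agent.Lib.Fi22Fusion.Data
import Cfsg.Agent.Lib.Fi23Syl.CheckWords
import Cfsg.Agent.Lib.Fi22Syl.Checks

/-!
The checked functions for the normalizer of the elementary abelian subgroup of order 2^11.
-/

set_option autoImplicit false

namespace CfsgLib.Fi22Fusion

open CfsgLib.CosetEnum CfsgLib.Fi23Syl
open CfsgLib.Fi22Syl (zVec)

/-- a normalising word -/
noncomputable def nW (k : ℕ) : List ℕ := nthWord nWords k

/-- its linear map -/
noncomputable def nlin (k v : ℕ) : ℕ := sUp (fun j => nth (nthWord nRows k) j 0) 11 v

/-- the linear map of a product, the first factor acting first -/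
noncomputable def nAct : List ℕ → ℕ → ℕ
  | [], v => v
  | k :: w, v => nAct w (nlin k v)

/-- membership in a list, for evaluation -/
noncomputable def memB (v : ℕ) (l : List ℕ) : Bool := l.any (Nat.beq v)

theorem memB_iff {v : ℕ} {l : List ℕ} : memB v l = true ↔ v ∈ l := by
  rw [memB, List.any_eq_true]
  exact ⟨fun ⟨x, hx, e⟩ => Nat.eq_of_beq_eq_true e ▸ hx, fun h => ⟨v, h, by simp⟩⟩

/-- `y` lies in the hexad through `p`, `q`, `r` -/
noncomputable def hexB (p q r y : ℕ) : Bool :=
  !(memB y [p, q, r]) && nTrans.any fun s => memB (p ^^^ q ^^^ r ^^^ y ^^^ zVec ^^^ s) nTrans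

/-- a member of the base of six -/
noncomputable def bp (i : ℕ) : ℕ := nth nBase i 0

/-- the possible images of a member of the base under maps fixing the earlier ones -/
noncomputable def allowed (i : ℕ) : List ℕ :=
  nTrans.filter fun y => !(memB y (nBase.take i)) &&
    (Nat.blt i 3 || (if i < 5 then hexB (bp 0) (bp 1) (bp 2) y else !(hexB (bp 0) (bp 1) (bp 2) y)))

/-- a witness of a level -/
noncomputable def levelOK (i : ℕ) (p : ℕ × List ℕ) : Bool :=
  (p.2.all fun k => Nat.blt k 5) && allBelow i (fun j => Nat.beq (nAct p.2 (bp j)) (bp j)) &&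
    Nat.beq (nAct p.2 (bp i)) p.1

/-- the six of a rigidity step leave only one candidate -/
noncomputable def stepsOK : List ℕ → List (ℕ × (ℕ × ℕ × ℕ) × (ℕ × ℕ × ℕ)) → Bool
  | known, [] => nTrans.all fun y => memB y known
  | known, (y, (p, q, r), (p', q', r')) :: rest =>
    ([p, q, r, p', q', r'].all fun v => memB v known) &&
      memB y nTrans && !(memB y known) && hexB p q r y && hexB p' q' r' y &&
      (nTrans.all fun x => memB x known || Nat.beq x y || !(hexB p q r x && hexB p' q' r' x)) &&
      stepsOK (y :: known) rest

/-- each vector of the tree is the image of one already present of the same orbit -/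
noncomputable def treeOK : List ℕ → List (ℕ × ℕ × ℕ × ℕ) → Bool
  | ms, [] => decide (ms = nMasks)
  | ms, (v, k, u, c) :: rest =>
    (ms.getD c 0).testBit u && Nat.blt k 5 && Nat.beq (nlin k u) v && Nat.blt v 2048 && Nat.blt c 6 &&
      treeOK (ms.set c ((ms.getD c 0) ||| 2 ^ v)) rest

/-- membership in the union of the selected orbits -/
noncomputable def xMem (m v : ℕ) : Bool :=
  (nth nMasks 0 0).testBit v || (List.range 5).any fun i => m.testBit i && (nth nMasks (i + 1) 0).testBit v

/-- pairs in a union of orbits with a given sum -/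
noncomputable def cnt (m r : ℕ) : ℕ :=
  ((List.range 2048).filter fun y => xMem m y && xMem m (y ^^^ r)).length

/-- the size of a union of orbits -/
noncomputable def sizeX (m : ℕ) : ℕ := ((List.range 2048).filter fun y => xMem m y).length

/-- either a listed selection, or two members with different counts -/
noncomputable def optOK (m : ℕ) : Bool :=
  memB m [0, 1, 2, 7, 31] ||
    (List.range 5).any fun i => m.testBit i && !(Nat.beq (cnt m (nth nReps (i + 1) 0)) (cnt m zVec))

end CfsgLib.Fi22Fusion
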