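import Cfsg.Agent.Lib.Fi22Fusion.Checks
import Cfsg.Agent.Lib.Fi22Syl.Quot

/-!
The automorphisms induced on the elementary abelian subgroup of order 2^11 by its normalizer in 2.Fi22.
-/

set_option autoImplicit false
set_option linter.unusedSectionVars false

namespace CfsgLib.Fi22Fusion

open CfsgLib.CosetEnum CfsgLib.Fi23Syl Cfsg.Spor
open CfsgLib.Fi22Syl (zVec aG_z)
open CfsgLib.Fi23Pres (gen subA transClass coverZ)

theorem el_mem (v : ℕ) : aG v ∈ baseSub :=
  pUp_mem (fun k hk => mem_baseSub.mpr ⟨2 ^ k, Nat.pow_lt_pow_right (by norm_num) hk, (pUp_two_pow bG hk).symm⟩) v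

/-- a member of the elementary abelian subgroup -/
noncomputable def el (v : ℕ) : baseSub := ⟨aG v, el_mem v⟩

theorem el_xor (v w : ℕ) : el (v ^^^ w) = el v * el w := Subtype.ext (aG_xor v w)

theorem el_inj {v w : ℕ} (hv : v < 2048) (hw : w < 2048) (h : el v = el w) : v = w :=
  aG_inj hv hw (congrArg Subtype.val h)

theorem el_surj (a : baseSub) : ∃ v < 2048, el v = a := by
  obtain ⟨v, hv, e⟩ := mem_baseSub.mp a.2
  exact ⟨v, hv, Subtype.ext e.symm⟩

theorem el_self (v : ℕ) : el v * el v = 1 := Subtype.ext (aG_self v)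

theorem z_lt : zVec < 2048 := by decide

/-- a normalising element -/
noncomputable def nG (k : ℕ) : Fi23 := prodW gen (nW k)

/-- a product of them, the first factor acting first -/
noncomputable def gN : List ℕ → Fi23
  | [] => 1
  | k :: w => gN w * nG k

theorem nG_mem {k : ℕ} (hk : k < 5) : nG k ∈ subA := by
  have h := allBelow_spec norm_letters k hk
  simp only [List.all_eq_true, Nat.blt_eq] at h
  unfold nG
  generalize nW k = w at h
  induction w with
  | nil => exact one_mem _
  | cons g w ih =>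
    rw [prodW_cons]
    exact mul_mem (Fi23Pres.gen_mem (h g (List.mem_cons_self ..)))
      (ih fun a ha => h a (List.mem_cons_of_mem _ ha))

theorem nlin_lt {k : ℕ} (hk : k < 5) (v : ℕ) : nlin k v < 2048 :=
  sUp_lt (m := 11) (fun j hj => by
    have h := allBelow_spec (allBelow_spec norm_conj k hk) j hj
    simp only [Bool.and_eq_true, Nat.blt_eq] at h
    exact h.2) v

theorem nG_conj {k : ℕ} (hk : k < 5) (v : ℕ) : nG k * aG v * (nG k)⁻¹ = aG (nlin k v) := by
  refine pUp_conj bG_comm bG_sq (fun j hj => ?_) le_rfl v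
  have h := allBelow_spec (allBelow_spec norm_conj k hk) j hj
  simp only [Bool.and_eq_true] at h
  have hs := same_eq h.1
  rw [prodW_append, prodW_append, prodW_aW] at hs
  change nG k * bG j = aG _ * nG k at hs
  rw [hs, mul_inv_cancel_right]
  rfl

theorem gN_conj : ∀ {w : List ℕ}, (∀ k ∈ w, k < 5) → ∀ v, gN w * aG v * (gN w)⁻¹ = aG (nAct w v)
  | [], _, v => by simp [gN, nAct]
  | k :: w, h, v => by
    rw [gN, nAct, ← gN_conj (w := w) (fun a ha => h a (List.mem_cons_of_mem _ ha)),
      ← nG_conj (h k (List.mem_cons_self ..))]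
    group

theorem gN_mem : ∀ {w : List ℕ}, (∀ k ∈ w, k < 5) → gN w ∈ subA
  | [], _ => one_mem _
  | k :: w, h => mul_mem (gN_mem fun a ha => h a (List.mem_cons_of_mem _ ha)) (nG_mem (h k (List.mem_cons_self ..)))

theorem nAct_lt : ∀ {w : List ℕ}, (∀ k ∈ w, k < 5) → ∀ {v : ℕ}, v < 2048 → nAct w v < 2048
  | [], _, _, hv => hv
  | k :: w, h, v, _ => nAct_lt (fun a ha => h a (List.mem_cons_of_mem _ ha)) (nlin_lt (h k (List.mem_cons_self ..)) v)

/-- the normalizer in the centralizer of the fixed transposition -/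
noncomputable def N0 : Subgroup (Subgroup.normalizer (baseSub : Set Fi23)) := subA.subgroupOf _

/-- the automorphisms induced -/
noncomputable def K : Subgroup (MulAut baseSub) := N0.map baseSub.normalizerMonoidHom

theorem K_mk {n : Fi23} (hn : n ∈ subA) (hnorm : ∀ v < 2048, n * aG v * n⁻¹ ∈ baseSub) :
    ∃ κ ∈ K, ∀ a : baseSub, (κ a : Fi23) = n * a * n⁻¹ := by
  have hN : n ∈ Subgroup.normalizer (baseSub : Set Fi23) := by
    rw [Subgroup.mem_normalizer_iff_map_conj_eq]
    refine Subgroup.eq_of_le_of_card_ge ?_ (le_of_eq ?_)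
    · rintro - ⟨a, ha, rfl⟩
      obtain ⟨v, hv, rfl⟩ := mem_baseSub.mp ha
      exact hnorm v hv
    · exact Nat.card_congr (baseSub.equivMapOfInjective _ (MulAut.conj n).injective).toEquiv
  exact ⟨_, Subgroup.mem_map_of_mem baseSub.normalizerMonoidHom (x := ⟨n, hN⟩) (K := N0)
    (Subgroup.mem_subgroupOf.mpr hn), fun a => rfl⟩

theorem K_spec {κ : MulAut baseSub} (h : κ ∈ K) :
    ∃ n ∈ subA, ∀ a : baseSub, (κ a : Fi23) = n * a * n⁻¹ := by
  obtain ⟨n, hn, rfl⟩ := Subgroup.mem_map.mp h
  exact ⟨n, Subgroup.mem_subgroupOf.mp hn, fun a => rfl⟩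

theorem K_word {w : List ℕ} (hw : ∀ k ∈ w, k < 5) :
    ∃ κ ∈ K, ∀ v, κ (el v) = el (nAct w v) := by
  obtain ⟨κ, hκ, h⟩ := K_mk (gN_mem hw) fun v _ => by rw [gN_conj hw]; exact el_mem _
  exact ⟨κ, hκ, fun v => Subtype.ext ((h _).trans (gN_conj hw v))⟩

theorem K_fix_z {κ : MulAut baseSub} (h : κ ∈ K) : κ (el zVec) = el zVec := by
  obtain ⟨n, hn, e⟩ := K_spec h
  refine Subtype.ext ((e _).trans ?_)
  show n * aG zVec * n⁻¹ = aG zVec
  rw [aG_z, Fi23Pres.coverZ_comm n hn, mul_inv_cancel_right]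

theorem trans_iff {v : ℕ} (hv : v < 2048) :
    (aG v ∈ transClass ∧ v ≠ zVec) ↔ v ∈ nTrans := by
  obtain ⟨hnd, hlen, hz, hlt⟩ := trans_nodup
  have hz' : zVec ∉ nTrans := fun h => by rw [memB_iff.mpr h] at hz; simp at hz
  simp only [List.all_eq_true, Nat.blt_eq] at hlt
  have hmem : ∀ y ∈ nTrans, aG y ∈ transClass := by
    intro y hy
    have hl := allBelow_spec level_ok 0 (by norm_num)
    rw [List.all_eq_true] at hl
    have hs : (nLevels.getD 0 []).length = 22 := by
      simpa [List.range, List.range.loop] using congrArg (fun l => l.getD 0 0) level_size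
    have hsub : ((nLevels.getD 0 []).map Prod.fst).toFinset = nTrans.toFinset := by
      refine Finset.eq_of_subset_of_card_le (fun x hx => ?_) ?_
      · obtain ⟨p, hp, rfl⟩ := List.mem_map.mp (List.mem_toFinset.mp hx)
        have ha := allBelow_spec level_allowed 0 (by norm_num)
        rw [List.all_eq_true] at ha
        exact List.mem_toFinset.mpr (List.mem_of_mem_filter (memB_iff.mp (ha p hp)))
      · rw [List.toFinset_card_of_nodup (noDup_nodup hnd), hlen,
          List.toFinset_card_of_nodup (noDup_nodup (allBelow_spec level_nodup 0 (by norm_num))), List.length_map, hs]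
    obtain ⟨p, hp, rfl⟩ := List.mem_map.mp (List.mem_toFinset.mp (hsub.symm ▸ List.mem_toFinset.mpr hy))
    have h := hl p hp
    simp only [levelOK, Bool.and_eq_true, List.all_eq_true, Nat.blt_eq] at h
    rw [← Nat.eq_of_beq_eq_true h.2, base_ok.2.2, ← gN_conj h.1.1]
    refine CfsgLib.M23.class_conj ?_
    rw [show aG 1 = bG 0 from pUp_two_pow (n := 11) (j := 0) bG (by norm_num)]
    exact (CfsgLib.Fi22Syl.bG_class (by norm_num)).1
  refine ⟨fun h => ?_, fun h => ⟨hmem v h, fun e => hz' (e ▸ h)⟩⟩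
  by_contra hn
  classical
  have hcard := CfsgLib.M23.clique23_le ((v :: zVec :: nTrans).toFinset.image aG) (by
    intro x hx
    obtain ⟨y, hy, rfl⟩ := Finset.mem_image.mp (Finset.mem_coe.mp hx)
    rcases List.mem_cons.mp (List.mem_toFinset.mp hy) with rfl | hy
    · exact h.1
    rcases List.mem_cons.mp hy with rfl | hy
    · rw [aG_z]; exact CfsgLib.M23.coverZ_mem_class
    · exact hmem y hy) (by
    intro a ha b hb
    obtain ⟨y, -, rfl⟩ := Finset.mem_image.mp ha
    obtain ⟨y', -, rfl⟩ := Finset.mem_image.mp hb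
    exact aG_comm y y')
  have hlt' : ∀ y ∈ (v :: zVec :: nTrans).toFinset, y < 2048 := by
    intro y hy
    rcases List.mem_cons.mp (List.mem_toFinset.mp hy) with rfl | hy
    · exact hv
    rcases List.mem_cons.mp hy with rfl | hy
    · exact z_lt
    · exact hlt y hy
  rw [Finset.card_image_of_injOn (fun a ha b hb e => aG_inj (hlt' a ha) (hlt' b hb) e),
    List.toFinset_card_of_nodup, List.length_cons, List.length_cons, hlen] at hcard
  · omega
  · exact List.nodup_cons.mpr ⟨by simp [h.2, hn], List.nodup_cons.mpr ⟨hz', noDup_nodup hnd⟩⟩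

theorem K_map {κ : MulAut baseSub} (h : κ ∈ K) : ∃ f : ℕ → ℕ, (∀ v, f v < 2048 ∧ κ (el v) = el (f v)) ∧
    (∀ v w, f (v ^^^ w) = f v ^^^ f w) ∧ f zVec = zVec ∧ ∀ v ∈ nTrans, f v ∈ nTrans := by
  choose f hf1 hf2 using fun v => el_surj (κ (el v))
  have hadd : ∀ v w, f (v ^^^ w) = f v ^^^ f w := fun v w =>
    el_inj (hf1 _) (Nat.xor_lt_two_pow (n := 11) (hf1 v) (hf1 w)) (by
      rw [hf2, el_xor, map_mul, el_xor, hf2, hf2])
  have hz : f zVec = zVec := el_inj (hf1 _) z_lt (by rw [hf2, K_fix_z h])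
  refine ⟨f, fun v => ⟨hf1 v, (hf2 v).symm⟩, hadd, hz, fun v hv => ?_⟩
  have hv2 : v < 2048 := by
    have := trans_nodup.2.2.2
    simp only [List.all_eq_true, Nat.blt_eq] at this
    exact this v hv
  obtain ⟨h1, h2⟩ := (trans_iff hv2).mpr hv
  refine (trans_iff (hf1 v)).mp ⟨?_, fun e => h2 ?_⟩
  · obtain ⟨n, -, hn⟩ := K_spec h
    rw [show aG (f v) = n * aG v * n⁻¹ from (congrArg Subtype.val (hf2 v)).trans (hn _)]
    exact CfsgLib.M23.class_conj h1
  · exact el_inj hv2 z_lt (κ.injective (by rw [← hf2, e, K_fix_z h]))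

theorem hexB_map {f : ℕ → ℕ} (hadd : ∀ v w, f (v ^^^ w) = f v ^^^ f w) (hz : f zVec = zVec)
    (hT : ∀ v ∈ nTrans, f v ∈ nTrans) (hinj : Function.Injective fun v : {v // v < 2048} => f v)
    {p q r y : ℕ} (hp : p < 2048) (hq : q < 2048) (hr : r < 2048) (hy : y < 2048)
    (h : hexB p q r y = true) : hexB (f p) (f q) (f r) (f y) = true := by
  simp only [hexB, Bool.and_eq_true, Bool.not_eq_true', List.any_eq_true, memB_iff] at h
  obtain ⟨h1, s, hs, hx⟩ := h
  have hne : y ≠ p ∧ y ≠ q ∧ y ≠ r := by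
    refine ⟨?_, ?_, ?_⟩ <;> rintro rfl <;> simp [memB] at h1
  have hinj' : ∀ a, a < 2048 → y ≠ a → f y ≠ f a := fun a ha hn e =>
    hn (congrArg Subtype.val (hinj (a₁ := ⟨y, hy⟩) (a₂ := ⟨a, ha⟩) e))
  simp only [hexB, Bool.and_eq_true, Bool.not_eq_true', List.any_eq_true, memB_iff]
  refine ⟨?_, f s, hT s hs, ?_⟩
  · rw [← Bool.not_eq_true, memB_iff]
    simp [hinj' p hp hne.1, hinj' q hq hne.2.1, hinj' r hr hne.2.2]
  · have := hT _ hx
    simp only [hadd, hz] at this
    exact this

theorem card_step {G X : Type*} [Group G] [MulAction G X] (L : Subgroup G) (x : X) :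
    Nat.card L = Nat.card (MulAction.orbit L x) * Nat.card (L ⊓ MulAction.stabilizer G x : Subgroup G) := by
  have h := Subgroup.card_eq_card_quotient_mul_card_subgroup (MulAction.stabilizer L x)
  rw [Nat.card_congr (MulAction.orbitEquivQuotientStabilizer L x).symm] at h
  rw [h]
  congr 1
  exact Nat.card_congr
    { toFun := fun g => ⟨(g : L), (g : L).2, g.2⟩
      invFun := fun g => ⟨⟨g.1, g.2.1⟩, g.2.2⟩
      left_inv := fun _ => rfl
      right_inv := fun _ => rfl }

/-- the pointwise stabilisers of the base -/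
noncomputable def L : ℕ → Subgroup (MulAut baseSub)
  | 0 => K
  | i + 1 => L i ⊓ MulAction.stabilizer (MulAut baseSub) (el (bp i))

theorem L_le : ∀ i, L i ≤ K
  | 0 => le_rfl
  | i + 1 => inf_le_left.trans (L_le i)

theorem L_fix : ∀ {i j}, j < i → ∀ κ ∈ L i, κ (el (bp j)) = el (bp j)
  | i + 1, j, hj, κ, h => by
    rcases Nat.lt_succ_iff_lt_or_eq.mp hj with hj | rfl
    · exact L_fix hj κ h.1
    · exact h.2

theorem L_mem : ∀ {i} {κ}, κ ∈ K → (∀ j < i, κ (el (bp j)) = el (bp j)) → κ ∈ L i
  | 0, _, h, _ => h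
  | i + 1, _, h, hf => ⟨L_mem h fun j hj => hf j (by omega), hf i (by omega)⟩

theorem bp_trans {i : ℕ} (hi : i < 6) : bp i ∈ nTrans :=
  List.mem_of_mem_filter (memB_iff.mp (allBelow_spec base_ok.1 i hi))

theorem trans_lt {v : ℕ} (h : v ∈ nTrans) : v < 2048 := by
  have := trans_nodup.2.2.2
  simp only [List.all_eq_true, Nat.blt_eq] at this
  exact this v h

theorem orbit_upper {i : ℕ} (hi : i < 6) :
    Nat.card (MulAction.orbit (L i) (el (bp i))) ≤ (allowed i).length := by
  classical
  have hsub : MulAction.orbit (L i) (el (bp i)) ⊆ ↑((allowed i).toFinset.image el) := by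
    rintro - ⟨⟨κ, hκ⟩, rfl⟩
    obtain ⟨f, hf, hadd, hz, hT⟩ := K_map (L_le i hκ)
    have hinj : Function.Injective fun v : {v // v < 2048} => f v := fun a b e =>
      Subtype.ext (el_inj a.2 b.2 (κ.injective (by rw [(hf a).2, (hf b).2, show f a.1 = f b.1 from e])))
    have hfix : ∀ j < i, f (bp j) = bp j := fun j hj =>
      el_inj (hf _).1 (trans_lt (bp_trans (by omega))) (by rw [← (hf _).2, L_fix hj κ hκ])
    refine Finset.mem_coe.mpr (Finset.mem_image.mpr ⟨f (bp i), List.mem_toFinset.mpr ?_, (hf _).2.symm⟩)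
    have hA := memB_iff.mp (allBelow_spec base_ok.1 i hi)
    simp only [allowed, List.mem_filter, Bool.and_eq_true, Bool.not_eq_true', Bool.or_eq_true] at hA ⊢
    obtain ⟨hbT, hnot, hcond⟩ := hA
    refine ⟨hT _ hbT, ?_, ?_⟩
    · rw [← Bool.not_eq_true, memB_iff] at hnot ⊢
      intro hmem
      obtain ⟨j, hj, e⟩ := List.getElem_of_mem hmem
      rw [List.length_take, base_ok.2.1] at hj
      have hbj : bp j = f (bp i) := by
        rw [← e, List.getElem_take, bp, nth_eq, List.getD_eq_getElem _ _ (by rw [base_ok.2.1]; omega)]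
      refine hnot ?_
      have hji : bp j = bp i := congrArg Subtype.val (hinj (a₁ := ⟨bp j, trans_lt (bp_trans (by omega))⟩)
        (a₂ := ⟨bp i, trans_lt hbT⟩) (show f (bp j) = f (bp i) by rw [hfix j (by omega), hbj]))
      rw [← hji, hbj]
      exact hmem
    · rcases hcond with h3 | h3
      · exact Or.inl h3
      · by_cases hi3 : i < 3
        · exact Or.inl (Nat.blt_eq.mpr hi3)
        refine Or.inr ?_
        have h0 := hfix 0 (by omega)
        have h1 := hfix 1 (by omega)
        have h2 := hfix 2 (by omega)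
        have hl : ∀ {j}, j < 6 → bp j < 2048 := fun hj => trans_lt (bp_trans hj)
        by_cases hi5 : i < 5
        · rw [if_pos hi5] at h3 ⊢
          have := hexB_map hadd hz hT hinj (hl (by norm_num)) (hl (by norm_num)) (hl (by norm_num)) (hl hi) h3
          rwa [h0, h1, h2] at this
        · rw [if_neg hi5] at h3 ⊢
          rw [Bool.not_eq_true'] at h3 ⊢
          rw [← Bool.not_eq_true] at h3 ⊢
          intro hh
          obtain ⟨f', hf', hadd', hz', hT'⟩ := K_map (inv_mem (L_le i hκ))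
          have hinj' : Function.Injective fun v : {v // v < 2048} => f' v := fun a b e =>
            Subtype.ext (el_inj a.2 b.2 ((κ⁻¹).injective (by rw [(hf' a).2, (hf' b).2, show f' a.1 = f' b.1 from e])))
          have hback : ∀ v, v < 2048 → f' (f v) = v := fun v hv =>
            el_inj (hf' _).1 hv (by rw [← (hf' _).2, ← (hf v).2]; exact κ.symm_apply_apply _)
          have := hexB_map hadd' hz' hT' hinj' (hl (j := 0) (by norm_num)) (hl (j := 1) (by norm_num))
            (hl (j := 2) (by norm_num)) (hf (bp i)).1 hh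
          rw [show f' (bp 0) = bp 0 by conv_lhs => rw [← h0]; exact hback _ (hl (by norm_num)),
            show f' (bp 1) = bp 1 by conv_lhs => rw [← h1]; exact hback _ (hl (by norm_num)),
            show f' (bp 2) = bp 2 by conv_lhs => rw [← h2]; exact hback _ (hl (by norm_num)),
            hback _ (hl hi)] at this
          exact h3 this
  calc Nat.card (MulAction.orbit (L i) (el (bp i))) ≤ Nat.card (↑((allowed i).toFinset.image el) : Set baseSub) :=
        Nat.card_mono (Finset.finite_toSet _) hsub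
    _ ≤ (allowed i).length := by
        simp only [Finset.coe_sort_coe, Nat.card_eq_fintype_card, Fintype.card_coe]
        exact Finset.card_image_le.trans (List.toFinset_card_le _)

theorem orbit_lower {i : ℕ} (hi : i < 4) :
    (nLevels.getD i []).length ≤ Nat.card (MulAction.orbit (L i) (el (bp i))) := by
  classical
  have hnd := noDup_nodup (allBelow_spec level_nodup i hi)
  have hall := allBelow_spec level_allowed i hi
  have hok := allBelow_spec level_ok i hi
  simp only [List.all_eq_true] at hall hok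
  have hsub : ↑(((nLevels.getD i []).map Prod.fst).toFinset.image el) ⊆ MulAction.orbit (L i) (el (bp i)) := by
    intro x hx
    obtain ⟨y, hy, rfl⟩ := Finset.mem_image.mp (Finset.mem_coe.mp hx)
    obtain ⟨p, hp, rfl⟩ := List.mem_map.mp (List.mem_toFinset.mp hy)
    have h := hok p hp
    simp only [levelOK, Bool.and_eq_true, List.all_eq_true, Nat.blt_eq] at h
    obtain ⟨κ, hκ, hκv⟩ := K_word h.1.1
    refine ⟨⟨κ, L_mem hκ fun j hj => ?_⟩, ?_⟩
    · rw [hκv, Nat.eq_of_beq_eq_true (allBelow_spec h.1.2 j hj)]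
    · show κ (el (bp i)) = el p.1
      rw [hκv, Nat.eq_of_beq_eq_true h.2]
  refine le_trans (le_of_eq ?_) (Nat.card_mono (Set.toFinite _) hsub)
  simp only [Finset.coe_sort_coe, Nat.card_eq_fintype_card, Fintype.card_coe]
  rw [Finset.card_image_of_injOn, List.toFinset_card_of_nodup hnd, List.length_map]
  intro a ha b hb e
  have hlt : ∀ a ∈ ((nLevels.getD i []).map Prod.fst).toFinset, a < 2048 := fun a ha => by
    obtain ⟨p, hp, rfl⟩ := List.mem_map.mp (List.mem_toFinset.mp ha)
    exact trans_lt (List.mem_of_mem_filter (memB_iff.mp (hall p hp)))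
  exact el_inj (hlt a ha) (hlt b hb) e

theorem steps_fix {f : ℕ → ℕ} (hadd : ∀ v w, f (v ^^^ w) = f v ^^^ f w) (hz : f zVec = zVec)
    (hT : ∀ v ∈ nTrans, f v ∈ nTrans) (hinj : Function.Injective fun v : {v // v < 2048} => f v) :
    ∀ (ps : List (ℕ × (ℕ × ℕ × ℕ) × (ℕ × ℕ × ℕ))) (known : List ℕ), stepsOK known ps = true →
      (∀ v ∈ known, v ∈ nTrans ∧ f v = v) → ∀ v ∈ nTrans, f v = v
  | [], known, h, hk, v, hv => by
    simp only [stepsOK, List.all_eq_true, memB_iff] at h
    exact (hk v (h v hv)).2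
  | (y, (p, q, r), (p', q', r')) :: ps, known, h, hk, v, hv => by
    simp only [stepsOK, Bool.and_eq_true, List.all_eq_true, memB_iff, Bool.or_eq_true, Bool.not_eq_true'] at h
    obtain ⟨⟨⟨⟨⟨⟨hin, hyT⟩, hyk⟩, hy1⟩, hy2⟩, huniq⟩, hrest⟩ := h
    have hk' : ∀ a ∈ [p, q, r, p', q', r'], f a = a ∧ a < 2048 := fun a ha =>
      ⟨(hk a (hin a ha)).2, trans_lt (hk a (hin a ha)).1⟩
    obtain ⟨ep, hp⟩ := hk' p (by simp)
    obtain ⟨eq, hq⟩ := hk' q (by simp)
    obtain ⟨er, hr⟩ := hk' r (by simp)
    obtain ⟨ep', hp'⟩ := hk' p' (by simp)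
    obtain ⟨eq', hq'⟩ := hk' q' (by simp)
    obtain ⟨er', hr'⟩ := hk' r' (by simp)
    have a1 := hexB_map hadd hz hT hinj hp hq hr (trans_lt hyT) hy1
    have a2 := hexB_map hadd hz hT hinj hp' hq' hr' (trans_lt hyT) hy2
    rw [ep, eq, er] at a1
    rw [ep', eq', er'] at a2
    have hy : f y = y := by
      rcases huniq (f y) (hT y hyT) with (hh | hh) | hh
      · exfalso
        rw [← Bool.not_eq_true, memB_iff] at hyk
        have : f y = y := congrArg Subtype.val (hinj (a₁ := ⟨f y, trans_lt (hT y hyT)⟩) (a₂ := ⟨y, trans_lt hyT⟩)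
          (hk _ hh).2)
        exact hyk (this ▸ hh)
      · exact Nat.eq_of_beq_eq_true hh
      · rw [a1, a2] at hh; simp at hh
    exact steps_fix hadd hz hT hinj ps _ hrest (fun a ha => by
      rcases List.mem_cons.mp ha with rfl | ha
      · exact ⟨hyT, hy⟩
      · exact hk a ha) v hv

theorem L_six : L 6 = ⊥ := by
  rw [Subgroup.eq_bot_iff_forall]
  intro κ hκ
  obtain ⟨f, hf, hadd, hz, hT⟩ := K_map (L_le 6 hκ)
  have hinj : Function.Injective fun v : {v // v < 2048} => f v := fun a b e =>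
    Subtype.ext (el_inj a.2 b.2 (κ.injective (by rw [(hf a).2, (hf b).2, show f a.1 = f b.1 from e])))
  have hT' := steps_fix hadd hz hT hinj nSteps nBase steps_ok fun v hv => by
    obtain ⟨j, hj, rfl⟩ := List.getElem_of_mem hv
    rw [base_ok.2.1] at hj
    have e : bp j = nBase[j] := by rw [bp, nth_eq, List.getD_eq_getElem _ _ (by rw [base_ok.2.1]; exact hj)]; rfl
    refine e ▸ ⟨bp_trans hj, el_inj (hf _).1 (trans_lt (bp_trans hj)) ?_⟩
    rw [← (hf _).2, L_fix hj κ hκ]
  let F : Subgroup baseSub :=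
    { carrier := {a | κ a = a}
      one_mem' := map_one κ
      mul_mem' := fun {a b} (ha : κ a = a) (hb : κ b = b) => by show κ (a * b) = a * b; rw [map_mul, ha, hb]
      inv_mem' := fun {a} (ha : κ a = a) => by show κ a⁻¹ = a⁻¹; rw [map_inv, ha] }
  refine MulEquiv.ext fun a => ?_
  obtain ⟨v, -, rfl⟩ := el_surj a
  have hmem : aG v ∈ F.map baseSub.subtype := pUp_mem (fun k hk => Subgroup.mem_map.mpr ⟨el (2 ^ k), ?_, ?_⟩) v
  · obtain ⟨b, hb, e⟩ := Subgroup.mem_map.mp hmem
    obtain rfl : b = el v := Subtype.ext e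
    exact hb
  · show κ (el (2 ^ k)) = el (2 ^ k)
    rw [(hf _).2, hT' _ (memB_iff.mp (allBelow_spec trans_basis k hk))]
  · exact pUp_two_pow bG hk

theorem two_pow_dvd : 128 ∣ Nat.card K := by
  let M := sylowSub.subgroupOf (Subgroup.normalizer (baseSub : Set Fi23))
  have hle : M.map baseSub.normalizerMonoidHom ≤ K :=
    Subgroup.map_mono fun x hx => Subgroup.mem_subgroupOf.mpr (CfsgLib.Fi22Syl.sylowSub_le (Subgroup.mem_subgroupOf.mp hx))
  refine dvd_trans ?_ (Subgroup.card_dvd_of_le hle)
  have hp : IsPGroup 2 (M.map baseSub.normalizerMonoidHom) :=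
    ((IsPGroup.of_card (n := 18) sylowSub_card).comap_of_injective _ (Subgroup.subtype_injective _)).map _
  obtain ⟨m, hm⟩ := hp.exists_card_eq
  have hr : ∀ e, rG e ∈ sylowSub := fun e =>
    pUp_mem (n := 7) (fun k hk => mem_sylowSub.mpr ⟨0, by norm_num, 2 ^ k,
      Nat.pow_lt_pow_right (n := 7) (by norm_num) hk, by rw [aG_zero, one_mul, rG, pUp_two_pow gG hk]⟩) e
  have hnorm : ∀ e, rG e ∈ Subgroup.normalizer (baseSub : Set Fi23) := fun e => by
    rw [Subgroup.mem_normalizer_iff_map_conj_eq]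
    refine Subgroup.eq_of_le_of_card_ge ?_ (le_of_eq ?_)
    · rintro - ⟨a, ha, rfl⟩
      exact baseSub_normal (hr e) ha
    · exact Nat.card_congr (baseSub.equivMapOfInjective _ (MulAut.conj (rG e)).injective).toEquiv
  let φ : Fin 128 → M.map baseSub.normalizerMonoidHom := fun e =>
    ⟨_, Subgroup.mem_map_of_mem _ (x := ⟨rG e, hnorm e⟩) (Subgroup.mem_subgroupOf.mpr (hr e))⟩
  have hinj : Function.Injective φ := fun e e' h => by
    have key : ∀ u < 2048, act e u = act e' u := fun u hu => by
      refine aG_inj (act_lt _ hu) (act_lt _ hu) ?_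
      rw [← rG_conj, ← rG_conj]
      exact congrArg (fun g : MulAut baseSub => ((g (el u) : baseSub) : Fi23)) (congrArg Subtype.val h)
    have hp : packAct e = packAct e' := by
      unfold packAct
      have hl : ∀ j ∈ List.range 11, act e (2 ^ j) = act e' (2 ^ j) := fun j hj =>
        key _ (show 2 ^ j < 2 ^ 11 from Nat.pow_lt_pow_right (by norm_num) (List.mem_range.mp hj))
      generalize List.range 11 = ls at hl
      induction ls with
      | nil => rfl
      | cons j ls ih =>
        simp only [List.foldr_cons]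
        rw [hl j (List.mem_cons_self ..), ih fun m hm => hl m (List.mem_cons_of_mem _ hm)]
    have e1 := Nat.eq_of_beq_eq_true (allBelow_spec act_tab e e.2)
    have e2 := Nat.eq_of_beq_eq_true (allBelow_spec act_tab e' e'.2)
    rw [hp, e2, nth_eq, nth_eq, List.getD_eq_getElem _ _ (by rw [act_tab_len]; exact e'.2),
      List.getD_eq_getElem _ _ (by rw [act_tab_len]; exact e.2)] at e1
    exact Fin.ext ((List.Nodup.getElem_inj_iff (noDup_nodup act_tab_nodup)).mp e1.symm)
  have h128 : 128 ≤ 2 ^ m := by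
    rw [← hm, ← Nat.card_fin 128]
    exact Nat.card_le_card_of_injective φ hinj
  have h7 : 7 ≤ m := by
    by_contra hlt
    have : 2 ^ m < 2 ^ 7 := Nat.pow_lt_pow_right (by norm_num) (by omega)
    omega
  rw [hm, show (128 : ℕ) = 2 ^ 7 from rfl]
  exact Nat.pow_dvd_pow 2 h7

theorem card_dvd_subA : 2048 * Nat.card K ∣ Nat.card subA := by
  let f := baseSub.normalizerMonoidHom.comp N0.subtype
  have hr : f.range = K := by rw [MonoidHom.range_comp, Subgroup.range_subtype]; rfl
  have hbase : baseSub ≤ Subgroup.normalizer (baseSub : Set Fi23) := Subgroup.le_normalizer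
  have hker : 2048 ∣ Nat.card f.ker := by
    let i : baseSub →* f.ker :=
      { toFun := fun a => ⟨⟨⟨a, hbase a.2⟩, Subgroup.mem_subgroupOf.mpr (CfsgLib.Fi22Syl.baseSub_le_subA a.2)⟩,
          MulEquiv.ext fun b => Subtype.ext (by
            obtain ⟨u, -, ha⟩ := mem_baseSub.mp a.2
            obtain ⟨w, -, hb⟩ := mem_baseSub.mp b.2
            show (a : Fi23) * b * (a : Fi23)⁻¹ = b
            rw [ha, hb, aG_comm, mul_inv_cancel_right])⟩
        map_one' := rfl
        map_mul' := fun _ _ => rfl }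
    rw [← baseSub_card]
    refine Subgroup.card_dvd_of_injective i fun a b e => Subtype.ext ?_
    exact congrArg (fun x : f.ker => (((x : N0) : Subgroup.normalizer (baseSub : Set Fi23)) : Fi23)) e
  have h := Subgroup.card_eq_card_quotient_mul_card_subgroup f.ker
  rw [Nat.card_congr (QuotientGroup.quotientKerEquivRange f).toEquiv, hr, mul_comm] at h
  have hN0 : Nat.card N0 ∣ Nat.card subA :=
    (Subgroup.card_comap_dvd_of_injective subA _ (Subgroup.subtype_injective _))
  exact (h ▸ mul_dvd_mul_right hker _).trans hN0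

theorem card_K : Nat.card K = 443520 := by
  have ho : ∀ i < 4, Nat.card (MulAction.orbit (L i) (el (bp i))) = [22, 21, 20, 3].getD i 0 := by
    intro i hi
    have h1 := orbit_upper (i := i) (by omega)
    have h2 := orbit_lower hi
    have e1 := congrArg (fun l => l.getD i 0) allowed_size
    have e2 := congrArg (fun l => l.getD i 0) level_size
    simp only [List.getD_eq_getElem?_getD, List.getElem?_map, List.getElem?_range (show i < 6 by omega),
      List.getElem?_range hi, Option.map_some, Option.getD_some] at e1 e2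
    rw [List.getD_eq_getElem?_getD] at h2
    interval_cases i <;> simp_all <;> omega
  have hu : ∀ i, i < 6 → Nat.card (L i) = Nat.card (MulAction.orbit (L i) (el (bp i))) * Nat.card (L (i + 1)) :=
    fun i _ => card_step (L i) (el (bp i))
  have h4 := orbit_upper (i := 4) (by norm_num)
  have h5 := orbit_upper (i := 5) (by norm_num)
  have e4 : (allowed 4).length = 2 ∧ (allowed 5).length = 16 := by
    have e := allowed_size
    simp [List.range, List.range.loop] at e
    exact ⟨e.2.2.2.2.1, e.2.2.2.2.2⟩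
  rw [e4.1] at h4
  rw [e4.2] at h5
  have h6 : Nat.card (L 6) = 1 := by rw [L_six]; exact Subgroup.card_bot
  have hK : Nat.card K = 27720 * (Nat.card (MulAction.orbit (L 4) (el (bp 4))) *
      Nat.card (MulAction.orbit (L 5) (el (bp 5)))) := by
    show Nat.card (L 0) = _
    rw [hu 0 (by norm_num), hu 1 (by norm_num), hu 2 (by norm_num), hu 3 (by norm_num), hu 4 (by norm_num),
      hu 5 (by norm_num), h6, ho 0 (by norm_num), ho 1 (by norm_num), ho 2 (by norm_num), ho 3 (by norm_num)]
    simp only [List.getD_cons_zero, List.getD_cons_succ, mul_one]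
    ring
  obtain ⟨m, hm⟩ : ∃ m, m = Nat.card (MulAction.orbit (L 4) (el (bp 4))) *
      Nat.card (MulAction.orbit (L 5) (el (bp 5))) := ⟨_, rfl⟩
  rw [← hm] at hK
  have hm32 : m ≤ 32 := hm ▸ Nat.mul_le_mul h4 h5
  have hd := two_pow_dvd
  have hd' := card_dvd_subA
  rw [Fi23Pres.card_subA] at hd'
  rw [hK] at hd hd' ⊢
  interval_cases m <;> revert hd hd' <;> norm_num

/-- the orbit of a vector under the maps -/
def Reach (r v : ℕ) : Prop := ∃ w : List ℕ, (∀ k ∈ w, k < 5) ∧ nAct w r = v

theorem nAct_append : ∀ (w w' : List ℕ) (v : ℕ), nAct (w ++ w') v = nAct w' (nAct w v)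
  | [], _, _ => rfl
  | k :: w, w', v => nAct_append w w' (nlin k v)

theorem tree_reach : ∀ (ps : List (ℕ × ℕ × ℕ × ℕ)) (ms : List ℕ), treeOK ms ps = true →
    (∀ c v, (ms.getD c 0).testBit v = true → Reach (nth nReps c 0) v) →
    ∀ c v, (nth nMasks c 0).testBit v = true → Reach (nth nReps c 0) v
  | [], ms, h, hr, c, v, hv => by
    rw [treeOK, decide_eq_true_eq] at h
    exact hr c v (by rwa [h, ← nth_eq])
  | (y, k, u, c₀) :: ps, ms, h, hr, c, v, hv => by
    simp only [treeOK, Bool.and_eq_true, Nat.blt_eq] at h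
    obtain ⟨⟨⟨⟨⟨hu, hk⟩, he⟩, hy⟩, hc₀⟩, hrest⟩ := h
    refine tree_reach ps _ hrest (fun c' v' hv' => ?_) c v hv
    by_cases hcc : c' = c₀
    · subst hcc
      by_cases hlen : c' < ms.length
      · rw [List.getD_eq_getElem?_getD, List.getElem?_set_self hlen, Option.getD_some, Nat.testBit_or,
          Bool.or_eq_true] at hv'
        rcases hv' with hv' | hv'
        · exact hr _ _ hv'
        · rw [Nat.testBit_two_pow, decide_eq_true_eq] at hv'
          obtain ⟨w, hw, e⟩ := hr _ _ hu
          refine ⟨w ++ [k], fun a ha => ?_, ?_⟩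
          · rcases List.mem_append.mp ha with ha | ha
            · exact hw a ha
            · rw [List.mem_singleton.mp ha]; exact hk
          · rw [nAct_append, e, ← hv']
            exact Nat.eq_of_beq_eq_true he
      · rw [List.getD_eq_default _ _ (by omega)] at hu
        simp at hu
    · rw [List.getD_eq_getElem?_getD, List.getElem?_set_ne (Ne.symm hcc), ← List.getD_eq_getElem?_getD] at hv'
      exact hr _ _ hv'

theorem orbit_reach {c v : ℕ} (h : (nth nMasks c 0).testBit v = true) : Reach (nth nReps c 0) v := by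
  refine tree_reach nTree _ tree_ok (fun c v hv => ⟨[], by simp, ?_⟩) c v h
  rw [List.getD_eq_getElem?_getD, List.getElem?_map] at hv
  rw [nth_eq, List.getD_eq_getElem?_getD]
  cases hc : nReps[c]? with
  | none => rw [hc] at hv; simp at hv
  | some r =>
    rw [hc, Option.map_some, Option.getD_some, Nat.testBit_two_pow, decide_eq_true_eq] at hv
    exact hv

end CfsgLib.Fi22Fusion
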