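import Cfsg.Agent.Lib.Fi22Fusion.Arith
import Cfsg.Agent.Lib.Fi22Fusion.Norm
import Cfsg.Agent.Lib.Fi22Fusion.Cover
import Cfsg.Prelude.Def_Transfer

/-!
The Thompson subgroup of a double cover of Fi22 which is a centralizer, and the conjugates of the involution in it.
-/

set_option autoImplicit false
set_option linter.unusedSectionVars false
set_option maxRecDepth 10000

namespace CfsgLib.Fi22Fusion

open CfsgLib.CosetEnum CfsgLib.Fi23Syl Cfsg.Spor
open CfsgLib.Fi22Syl (zVec aG_z InZ)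
open CfsgLib.Fi23Pres (subA zSub coverZ)

theorem elem_le {B : Subgroup Fi23} (hB : B ≤ sylowSub) (hE : Cfsg.IsElementaryAbelian 2 B) :
    Nat.card B ≤ 2048 ∧ (Nat.card B = 2048 → B = baseSub) :=
  CfsgLib.Fi22Syl.card_le_and_eq hB (fun x hx y hy => ⟨0, Or.inl rfl, by
      have hxy : x * y = y * x := congrArg Subtype.val (hE.1.is_comm.comm (⟨x, hx⟩ : B) ⟨y, hy⟩)
      rw [hxy, mul_inv_cancel, aG_zero]⟩)
    fun x hx => ⟨0, Or.inl rfl, by rw [← pow_two, hE.2 x hx, aG_zero]⟩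

theorem baseSub_elem : Cfsg.IsElementaryAbelian 2 baseSub := by
  refine ⟨⟨⟨?_⟩⟩, fun x hx => ?_⟩
  · rintro ⟨x, hx⟩ ⟨y, hy⟩
    obtain ⟨u, -, rfl⟩ := mem_baseSub.mp hx
    obtain ⟨w, -, rfl⟩ := mem_baseSub.mp hy
    exact Subtype.ext (aG_comm u w)
  · obtain ⟨u, -, rfl⟩ := mem_baseSub.mp hx
    rw [pow_two, aG_self]

variable {G : Type*} [Group G]

theorem elem_map {H : Type*} [Group H] (f : H →* G) {A : Subgroup H} (hA : Cfsg.IsElementaryAbelian 2 A) :
    Cfsg.IsElementaryAbelian 2 (A.map f) := by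
  refine ⟨⟨⟨?_⟩⟩, ?_⟩
  · rintro ⟨x, hx⟩ ⟨y, hy⟩
    obtain ⟨a, ha, rfl⟩ := Subgroup.mem_map.mp hx
    obtain ⟨b, hb, rfl⟩ := Subgroup.mem_map.mp hy
    refine Subtype.ext ?_
    show f a * f b = f b * f a
    rw [← map_mul, ← map_mul]
    exact congrArg f (congrArg Subtype.val (hA.1.is_comm.comm (⟨a, ha⟩ : A) ⟨b, hb⟩) :)
  · intro x hx
    obtain ⟨a, ha, rfl⟩ := Subgroup.mem_map.mp hx
    rw [← map_pow, hA.2 a ha, map_one]

theorem elem_comap {H : Type*} [Group H] {f : H →* G} (hf : Function.Injective f) {A : Subgroup G}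
    (hA : Cfsg.IsElementaryAbelian 2 A) : Cfsg.IsElementaryAbelian 2 (A.comap f) := by
  refine ⟨⟨⟨fun x y => Subtype.ext (hf ?_)⟩⟩, fun x hx => hf (by rw [map_pow, hA.2 _ hx, map_one])⟩
  show f ((x : H) * y) = f ((y : H) * x)
  rw [map_mul, map_mul]
  exact congrArg Subtype.val (hA.1.is_comm.comm (⟨_, x.2⟩ : A) ⟨_, y.2⟩)

/-- a map from the double cover onto a centralizer, which carries a given Sylow subgroup -/
theorem exists_embedding [Finite G] {d : G} (hd : orderOf d = 2) {C : Subgroup G} (hdC : ∀ c ∈ C, Commute c d)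
    (θ : subA ≃* C) (hθ : (θ zSub : G) = d) (S : Sylow 2 C) :
    ∃ ι : subA →* G, Function.Injective ι ∧ ι.range = C ∧ ι zSub = d ∧
      (S : Subgroup C).map C.subtype = (sylowSub.subgroupOf subA).map ι := by
  let T : Subgroup subA := sylowSub.subgroupOf subA
  have hT : Nat.card T = 2 ^ 18 := by
    rw [Nat.card_congr (Subgroup.subgroupOfEquivOfLe CfsgLib.Fi22Syl.sylowSub_le).toEquiv, sylowSub_card]
  have hP : IsPGroup 2 (T.map θ.toMonoidHom) := (IsPGroup.of_card (n := 18) hT).map _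
  have hidx : ¬ 2 ∣ (T.map θ.toMonoidHom).index := by
    show ¬ 2 ∣ Subgroup.index (Subgroup.map (θ : subA →* C) _)
    rw [Subgroup.index_map_equiv]
    have h := Subgroup.card_mul_index T
    rw [hT, Fi23Pres.card_subA] at h
    omega
  obtain ⟨g, hg⟩ := MulAction.exists_smul_eq C (hP.toSylow hidx) S
  refine ⟨C.subtype.comp ((MulAut.conj g).toMonoidHom.comp θ.toMonoidHom), ?_, ?_, ?_, ?_⟩
  · exact C.subtype_injective.comp ((MulAut.conj g).injective.comp θ.injective)
  · rw [MonoidHom.range_comp, MonoidHom.range_eq_top.mpr ((MulAut.conj g).surjective.comp θ.surjective),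
      ← MonoidHom.range_eq_map, Subgroup.range_subtype]
  · show (g : G) * (θ zSub : G) * (g : G)⁻¹ = d
    rw [hθ, (hdC g g.2).eq, mul_inv_cancel_right]
  · rw [← hg]
    show ((T.map θ.toMonoidHom).map (MulAut.conj g).toMonoidHom).map C.subtype = _
    rw [Subgroup.map_map, Subgroup.map_map]
    rfl

/-- the image of the elementary abelian subgroup is the Thompson subgroup of the Sylow subgroup -/
theorem thompson_eq [Finite G] {C : Subgroup G} {ι : subA →* G} (hι : Function.Injective ι) {S : Subgroup C}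
    (hS : S.map C.subtype = (sylowSub.subgroupOf subA).map ι) :
    (Cfsg.thompsonSubgroupOf 2 S).map C.subtype = (baseSub.subgroupOf subA).map ι ∧
    ∀ B : Subgroup G, B ≤ S.map C.subtype → Cfsg.IsElementaryAbelian 2 B →
      Nat.card B ≤ 2048 ∧ (Nat.card B = 2048 → B = (baseSub.subgroupOf subA).map ι) := by
  set A := (baseSub.subgroupOf subA).map ι with hA
  have hAc : Nat.card A = 2048 := by
    rw [hA, ← Nat.card_congr ((baseSub.subgroupOf subA).equivMapOfInjective ι hι).toEquiv,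
      Nat.card_congr (Subgroup.subgroupOfEquivOfLe CfsgLib.Fi22Syl.baseSub_le_subA).toEquiv, baseSub_card]
  have hAe : Cfsg.IsElementaryAbelian 2 A :=
    elem_map ι (elem_comap subA.subtype_injective baseSub_elem)
  have hAS : A ≤ S.map C.subtype := hS ▸ Subgroup.map_mono (Subgroup.comap_mono baseSub_le)
  have hmax : ∀ B : Subgroup G, B ≤ S.map C.subtype → Cfsg.IsElementaryAbelian 2 B →
      Nat.card B ≤ 2048 ∧ (Nat.card B = 2048 → B = A) := by
    intro B hB hBe
    rw [hS] at hB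
    have hr : B ≤ ι.range := hB.trans (Subgroup.map_le_range _ _)
    have hm : (B.comap ι).map ι = B := Subgroup.map_comap_eq_self hr
    let B' : Subgroup Fi23 := (B.comap ι).map subA.subtype
    have hB' : B' ≤ sylowSub := by
      rintro - ⟨b, hb, rfl⟩
      exact Subgroup.mem_subgroupOf.mp ((Subgroup.mem_map_iff_mem hι).mp (hB hb))
    obtain ⟨h1, h2⟩ := elem_le hB' (elem_map _ (elem_comap hι hBe))
    have hc : Nat.card B' = Nat.card B := by
      show Nat.card ((B.comap ι).map subA.subtype) = _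
      rw [← Nat.card_congr ((B.comap ι).equivMapOfInjective _ subA.subtype_injective).toEquiv,
        Nat.card_congr ((B.comap ι).equivMapOfInjective ι hι).toEquiv, hm]
    rw [hc] at h1 h2
    refine ⟨h1, fun h => ?_⟩
    rw [hA, ← hm, ← h2 h]
    congr 1
    exact (Subgroup.comap_map_eq_self_of_injective subA.subtype_injective _).symm
  refine ⟨?_, hmax⟩
  have hsub : ∀ B : Subgroup S, Cfsg.IsElementaryAbelian 2 B →
      Nat.card B ≤ 2048 ∧ (Nat.card B = 2048 → (B.map S.subtype).map C.subtype = A) := by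
    intro B hB
    have hc : Nat.card ((B.map S.subtype).map C.subtype) = Nat.card B := by
      rw [← Nat.card_congr ((B.map S.subtype).equivMapOfInjective _ C.subtype_injective).toEquiv,
        ← Nat.card_congr (B.equivMapOfInjective _ S.subtype_injective).toEquiv]
    have := hmax _ (Subgroup.map_mono (Subgroup.map_subtype_le B)) (elem_map _ (elem_map _ hB))
    rwa [hc] at this
  let A' : Subgroup S := (A.comap C.subtype).comap S.subtype
  have hA'1 : Cfsg.IsElementaryAbelian 2 A' :=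
    elem_comap S.subtype_injective (elem_comap C.subtype_injective hAe)
  have hA'2 : (A'.map S.subtype).map C.subtype = A := by
    refine le_antisymm ?_ fun x hx => ?_
    · rintro - ⟨-, ⟨a, ha, rfl⟩, rfl⟩
      exact ha
    · obtain ⟨y, hy, rfl⟩ := Subgroup.mem_map.mp (hAS hx)
      exact Subgroup.mem_map_of_mem _ (Subgroup.mem_map.mpr ⟨⟨y, hy⟩, hx, rfl⟩)
  have hA'c : Nat.card A' = 2048 := by
    rw [← hAc, ← hA'2, ← Nat.card_congr ((A'.map S.subtype).equivMapOfInjective _ C.subtype_injective).toEquiv,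
      ← Nat.card_congr (A'.equivMapOfInjective _ S.subtype_injective).toEquiv]
  have hJ : Cfsg.thompsonSubgroup 2 S = A' := by
    refine le_antisymm (sSup_le fun B hB => ?_) (le_sSup ⟨hA'1, fun B hB => hA'c ▸ (hsub B hB).1⟩)
    have h := (hsub B hB.1).2 (le_antisymm (hsub B hB.1).1 (hA'c ▸ hB.2 A' hA'1))
    intro x hx
    show ((x : C) : G) ∈ A
    rw [← h]
    exact Subgroup.mem_map_of_mem _ (Subgroup.mem_map_of_mem _ hx)
  rw [Cfsg.thompsonSubgroupOf, hJ]
  exact hA'2

theorem reps_lt' (c : ℕ) : nth nReps c 0 < 2048 := by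
  rw [nth_eq]
  by_cases h : c < nReps.length
  · rw [List.getD_eq_getElem _ _ h]
    have h' := reps_lt.1
    simp only [List.all_eq_true, Nat.blt_eq] at h'
    exact h' _ (List.getElem_mem h)
  · rw [List.getD_eq_default _ _ (by omega)]
    norm_num

theorem zero_not_mask {c : ℕ} (hc : c < 6) : (nth nMasks c 0).testBit 0 = false := by
  have h : allBelow 6 (fun c => !((nth nMasks c 0).testBit 0)) = true := by decide +kernel
  simpa using allBelow_spec h c hc

theorem mask_reps : allBelow 6 (fun c => (nth nMasks c 0).testBit (nth nReps c 0)) = true := by decide +kernel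

theorem count_eq {S : Set ℕ} {f : ℕ → ℕ} (hf : ∀ v, f v < 2048) (hinj : ∀ v < 2048, ∀ w < 2048, f v = f w → v = w)
    (hadd : ∀ v w, f (v ^^^ w) = f v ^^^ f w) (hS : ∀ v < 2048, (f v ∈ S ↔ v ∈ S)) {x : ℕ} (hx : x < 2048)
    [DecidablePred (· ∈ S)] :
    ((Finset.range 2048).filter fun y => y ∈ S ∧ y ^^^ x ∈ S).card =
      ((Finset.range 2048).filter fun y => y ∈ S ∧ y ^^^ f x ∈ S).card := by
  refine Finset.card_bij (fun y _ => f y) (fun y hy => ?_) (fun a ha b hb e => ?_) fun y hy => ?_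
  · simp only [Finset.mem_filter, Finset.mem_range] at hy ⊢
    obtain ⟨hy, h1, h2⟩ := hy
    refine ⟨hf y, (hS y hy).mpr h1, ?_⟩
    rw [← hadd]
    exact (hS _ (Nat.xor_lt_two_pow (n := 11) hy hx)).mpr h2
  · simp only [Finset.mem_filter, Finset.mem_range] at ha hb
    exact hinj a ha.1 b hb.1 e
  · obtain ⟨v, hv, e⟩ := Finset.surj_on_of_inj_on_of_card_le (s := Finset.range 2048) (t := Finset.range 2048)
      (fun v _ => f v) (fun v _ => Finset.mem_range.mpr (hf v))
      (fun a b ha hb e => hinj a (Finset.mem_range.mp ha) b (Finset.mem_range.mp hb) e) le_rfl y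
      (Finset.mem_filter.mp hy).1
    have hv' := Finset.mem_range.mp hv
    obtain ⟨-, h1, h2⟩ := Finset.mem_filter.mp hy
    subst e
    rw [← hadd] at h2
    exact ⟨v, Finset.mem_filter.mpr ⟨hv, (hS v hv').mp h1,
      (hS _ (Nat.xor_lt_two_pow (n := 11) hv' hx)).mp h2⟩, rfl⟩

theorem fusion [Finite G] {d : G} (hd : orderOf d = 2) {C : Subgroup G} (hC : ∀ c, c ∈ C ↔ Commute c d)
    (ι : subA →* G) (hι : Function.Injective ι) (hr : ι.range = C) (hz : ι zSub = d)
    (hinvol : ∀ x : subA, x * x = 1 → ∃ u : subA, ((u * x * u⁻¹ : subA) : Fi23) ∈ baseSub)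
    (hunique : ∀ B : Subgroup G, B ≤ C → Cfsg.IsElementaryAbelian 2 B → Nat.card B = 2048 →
      ∃ c ∈ C, B.map (MulAut.conj c).toMonoidHom = (baseSub.subgroupOf subA).map ι)
    (hnwc : ∃ g : G, g * d * g⁻¹ ∈ C ∧ g * d * g⁻¹ ≠ d) :
    ∀ A : Subgroup G, A = (baseSub.subgroupOf subA).map ι →
      Cfsg.IsElementaryAbelian 2 A ∧ Nat.card A = 2 ^ 11 ∧ Set.ncard {x : G | x ∈ A ∧ IsConj d x} = 23 ∧
        ∀ x ∈ A, ∀ y ∈ A, IsConj d x → IsConj d y → ∃ n ∈ Subgroup.normalizer (A : Set G), n * x * n⁻¹ = y := by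
  classical
  intro A hA
  let j : baseSub →* G := ι.comp (Subgroup.inclusion CfsgLib.Fi22Syl.baseSub_le_subA)
  have hj : Function.Injective j := hι.comp (Subgroup.inclusion_injective _)
  have hjr : j.range = A := by
    rw [hA, MonoidHom.range_comp]
    congr 1
    ext x
    exact ⟨fun ⟨a, ha⟩ => ha ▸ a.2, fun hx => ⟨⟨x, hx⟩, rfl⟩⟩
  have hjz : j (el zVec) = d := by
    rw [← hz]
    exact congrArg ι (Subtype.ext aG_z)
  have hAe : Cfsg.IsElementaryAbelian 2 A := hA ▸ elem_map ι (elem_comap subA.subtype_injective baseSub_elem)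
  have hAc : Nat.card A = 2048 := by
    rw [← hjr, ← Nat.card_congr (MonoidHom.ofInjective hj).toEquiv, baseSub_card]
  have hjmem : ∀ a, j a ∈ A := fun a => hjr ▸ ⟨a, rfl⟩
  have hAC : A ≤ C := hr ▸ hA ▸ Subgroup.map_le_range _ _
  -- a conjugate of d in A is a conjugate under the normalizer
  have hfus : ∀ x ∈ A, IsConj d x → ∃ n ∈ Subgroup.normalizer (A : Set G), n * d * n⁻¹ = x := by
    intro x hx hconj
    obtain ⟨g, rfl⟩ := isConj_iff.mp hconj
    have hle : A.map (MulAut.conj g⁻¹).toMonoidHom ≤ C := by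
      rintro - ⟨a, ha, rfl⟩
      refine (hC _).mpr ?_
      have hc : a * (g * d * g⁻¹) = g * d * g⁻¹ * a :=
        congrArg Subtype.val (hAe.1.is_comm.comm (⟨a, ha⟩ : A) ⟨_, hx⟩)
      show g⁻¹ * a * g⁻¹⁻¹ * d = d * (g⁻¹ * a * g⁻¹⁻¹)
      calc g⁻¹ * a * g⁻¹⁻¹ * d = g⁻¹ * (a * (g * d * g⁻¹)) * g := by group
        _ = g⁻¹ * (g * d * g⁻¹ * a) * g := by rw [hc]
        _ = d * (g⁻¹ * a * g⁻¹⁻¹) := by group
    obtain ⟨c, hc, e⟩ := hunique _ hle (elem_map _ hAe) (by
      rw [← hAc]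
      exact (Nat.card_congr (A.equivMapOfInjective _ (MulAut.conj g⁻¹).injective).toEquiv).symm)
    rw [← hA, Subgroup.map_map] at e
    refine ⟨g * c⁻¹, ?_, ?_⟩
    · rw [show g * c⁻¹ = (c * g⁻¹)⁻¹ by group]
      refine inv_mem ?_
      rw [Subgroup.mem_normalizer_iff_map_conj_eq]
      convert e using 2
      refine MonoidHom.ext fun a => ?_
      show c * g⁻¹ * a * (c * g⁻¹)⁻¹ = c * (g⁻¹ * a * g⁻¹⁻¹) * c⁻¹
      group
    · rw [show g * c⁻¹ * d * (g * c⁻¹)⁻¹ = g * (c⁻¹ * d * c) * g⁻¹ by group, mul_assoc c⁻¹,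
        ← ((hC c).mp hc).eq, inv_mul_cancel_left]
  have htrans : ∀ x ∈ A, ∀ y ∈ A, IsConj d x → IsConj d y →
      ∃ n ∈ Subgroup.normalizer (A : Set G), n * x * n⁻¹ = y := by
    intro x hx y hy h1 h2
    obtain ⟨n, hn, rfl⟩ := hfus x hx h1
    obtain ⟨m, hm, rfl⟩ := hfus y hy h2
    exact ⟨m * n⁻¹, mul_mem hm (inv_mem hn), by group⟩
  refine ⟨hAe, hAc.trans (by norm_num), ?_, htrans⟩
  -- the automorphisms induced by the normalizer
  let e : baseSub ≃* A := (MonoidHom.ofInjective hj).trans (MulEquiv.subgroupCongr hjr)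
  let ρ : Subgroup.normalizer (A : Set G) →* MulAut baseSub :=
    (MulAut.congr e.symm).toMonoidHom.comp A.normalizerMonoidHom
  have hρ : ∀ n (a : baseSub), j (ρ n a) = (n : G) * j a * (n : G)⁻¹ := by
    intro n a
    show ((e (e.symm (A.normalizerMonoidHom n (e a))) : A) : G) = _
    rw [e.apply_symm_apply]
    rfl
  set H := ρ.range with hH
  have hK : H ⊓ MulAction.stabilizer (MulAut baseSub) (el zVec) = K := by
    ext κ
    constructor
    · rintro ⟨⟨⟨n, hn⟩, rfl⟩, hfix⟩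
      have hcd : Commute n d := by
        have := hρ ⟨n, hn⟩ (el zVec)
        rw [show ρ ⟨n, hn⟩ (el zVec) = el zVec from hfix, hjz] at this
        exact (mul_inv_eq_iff_eq_mul.mp this.symm)
      obtain ⟨m, rfl⟩ := (hr.symm ▸ (hC n).mpr hcd : n ∈ ι.range)
      have hm : ∀ a : baseSub, ((ρ ⟨ι m, hn⟩ a : baseSub) : Fi23) = (m : Fi23) * a * (m : Fi23)⁻¹ := by
        intro a
        have h := hρ ⟨ι m, hn⟩ a
        rw [show j a = ι ⟨a, CfsgLib.Fi22Syl.baseSub_le_subA a.2⟩ from rfl, ← map_inv, ← map_mul, ← map_mul] at h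
        exact congrArg Subtype.val (hι h)
      obtain ⟨κ', hκ', h'⟩ := K_mk m.2 fun v _ => hm (el v) ▸ (ρ ⟨ι m, hn⟩ (el v)).2
      convert hκ'
      exact MulEquiv.ext fun a => Subtype.ext ((hm a).trans (h' a).symm)
    · intro hκ
      refine ⟨?_, K_fix_z hκ⟩
      obtain ⟨n, hn, h⟩ := K_spec hκ
      have hN : ι ⟨n, hn⟩ ∈ Subgroup.normalizer (A : Set G) := by
        rw [Subgroup.mem_normalizer_iff_map_conj_eq]
        refine Subgroup.eq_of_le_of_card_ge ?_ (le_of_eq ?_)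
        · rw [← hjr]
          rintro - ⟨-, ⟨a, rfl⟩, rfl⟩
          refine ⟨κ a, ?_⟩
          show ι _ = ι ⟨n, hn⟩ * ι _ * (ι ⟨n, hn⟩)⁻¹
          rw [← map_inv, ← map_mul, ← map_mul]
          exact congrArg ι (Subtype.ext (h a))
        · exact Nat.card_congr (A.equivMapOfInjective _ (MulAut.conj _).injective).toEquiv
      refine ⟨⟨_, hN⟩, MulEquiv.ext fun a => hj ?_⟩
      rw [hρ]
      show ι ⟨n, hn⟩ * ι _ * (ι ⟨n, hn⟩)⁻¹ = ι _
      rw [← map_inv, ← map_mul, ← map_mul]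
      exact congrArg ι (Subtype.ext (h a).symm)
  -- the conjugates of d
  let X : Set ℕ := {v | v < 2048 ∧ IsConj d (j (el v))}
  have hzX : zVec ∈ X := ⟨z_lt, hjz ▸ IsConj.refl d⟩
  have horb : MulAction.orbit H (el zVec) = el '' X := by
    ext a
    constructor
    · rintro ⟨⟨_, n, rfl⟩, rfl⟩
      obtain ⟨v, hv, ev⟩ := el_surj (ρ n (el zVec))
      refine ⟨v, ⟨hv, ?_⟩, ev⟩
      rw [ev, hρ, hjz]
      exact isConj_iff.mpr ⟨n, rfl⟩
    · rintro ⟨v, ⟨hv, hconj⟩, rfl⟩
      obtain ⟨n, hn, en⟩ := hfus _ (hjmem _) hconj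
      refine ⟨⟨_, ⟨n, hn⟩, rfl⟩, hj ?_⟩
      show j (ρ ⟨n, hn⟩ (el zVec)) = _
      rw [hρ, hjz, en]
  have hinjX : Set.InjOn el X := fun a ha b hb h => el_inj ha.1 hb.1 h
  have hcardH : Nat.card H = Nat.card X * 443520 := by
    rw [card_step H (el zVec), hK, card_K, horb, Nat.card_image_of_injOn hinjX]
  have hsmul : ∀ κ ∈ H, ∀ v w, v < 2048 → w < 2048 → κ (el v) = el w → (w ∈ X ↔ v ∈ X) := by
    rintro κ ⟨n, rfl⟩ v w hv hw h
    have he : j (el w) = (n : G) * j (el v) * (n : G)⁻¹ := by rw [← h, hρ]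
    have hc : IsConj (j (el v)) (j (el w)) := isConj_iff.mpr ⟨n, he.symm⟩
    exact ⟨fun h => ⟨hv, h.2.trans hc.symm⟩, fun h => ⟨hw, h.2.trans hc⟩⟩
  -- the union of orbits
  obtain ⟨m, hm, hbit⟩ : ∃ m < 32, ∀ i < 5, (m.testBit i = true ↔ nth nReps (i + 1) 0 ∈ X) := by
    have key : ∀ b : Fin 5 → Bool, ∃ m : Fin 32, ∀ i : Fin 5, (m : ℕ).testBit i = b i := by decide +kernel
    obtain ⟨m, hm⟩ := key fun i => decide (nth nReps (i.1 + 1) 0 ∈ X)
    exact ⟨m, m.2, fun i hi => by rw [hm ⟨i, hi⟩]; simp⟩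
  have hreach : ∀ c < 6, ∀ v < 2048, (nth nMasks c 0).testBit v = true → (v ∈ X ↔ nth nReps c 0 ∈ X) := by
    intro c hc v hv h
    obtain ⟨w, hw, e⟩ := orbit_reach h
    obtain ⟨κ, hκ, hκv⟩ := K_word hw
    exact hsmul κ (hK ▸ hκ : κ ∈ H ⊓ _).1 _ _ (reps_lt' c) hv (by rw [hκv, e])
  have hzero : (0 : ℕ) ∉ X := by
    rintro ⟨-, h⟩
    rw [show j (el 0) = 1 from by rw [show el 0 = 1 from Subtype.ext aG_zero, map_one], isConj_one_left] at h
    rw [h, orderOf_one] at hd
    norm_num at hd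
  have hXm : ∀ v < 2048, (v ∈ X ↔ xMem m v = true) := by
    intro v hv
    rw [xMem, Bool.or_eq_true, List.any_eq_true]
    constructor
    · intro hX
      have h := allBelow_spec masks_cover v hv
      rw [Bool.or_eq_true, List.any_eq_true] at h
      rcases h with h | ⟨c, hc, hbv⟩
      · exact absurd hX (Nat.eq_of_beq_eq_true h ▸ hzero)
      rw [List.mem_range] at hc
      rcases Nat.eq_zero_or_pos c with rfl | hpos
      · exact Or.inl hbv
      · obtain ⟨i, rfl⟩ : ∃ i, c = i + 1 := ⟨c - 1, by omega⟩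
        refine Or.inr ⟨i, List.mem_range.mpr (by omega), ?_⟩
        rw [Bool.and_eq_true]
        exact ⟨(hbit i (by omega)).mpr ((hreach _ hc v hv hbv).mp hX), hbv⟩
    · rintro (hb | ⟨i, hi, hb⟩)
      · exact (hreach 0 (by norm_num) v hv hb).mpr (reps_lt.2.2 ▸ hzX)
      · rw [Bool.and_eq_true] at hb
        rw [List.mem_range] at hi
        exact (hreach _ (by omega) v hv hb.2).mpr ((hbit i hi).mp hb.1)
  have hsize : Nat.card X = sizeX m := by
    have : X = ↑((Finset.range 2048).filter fun y => xMem m y = true) := by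
      ext v
      simp only [Finset.coe_filter, Finset.mem_range]
      exact ⟨fun h => ⟨h.1, (hXm v h.1).mp h⟩, fun h => (hXm v h.1).mpr h.2⟩
    rw [this]
    simp only [Finset.coe_sort_coe, Nat.card_eq_fintype_card, Fintype.card_coe]
    rw [sizeX, ← List.toFinset_card_of_nodup (List.nodup_range.filter _)]
    congr 1
    ext y
    simp only [Finset.mem_filter, Finset.mem_range, List.mem_toFinset, List.mem_filter, List.mem_range]
  have hcnt : ∀ r < 2048, ((Finset.range 2048).filter fun y => y ∈ X ∧ y ^^^ r ∈ X).card = cnt m r := by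
    intro r hr
    rw [cnt, ← List.toFinset_card_of_nodup (List.nodup_range.filter _)]
    congr 1
    ext y
    simp only [Finset.mem_filter, Finset.mem_range, List.mem_toFinset, List.mem_filter, List.mem_range, Bool.and_eq_true]
    exact and_congr_right fun hy => and_congr (hXm y hy) (hXm _ (Nat.xor_lt_two_pow (n := 11) hy hr))
  -- every member sees the same number of pairs
  have hinv : ∀ x ∈ X, cnt m x = cnt m zVec := by
    intro x hx
    have hxo : el x ∈ MulAction.orbit H (el zVec) := horb ▸ ⟨x, hx, rfl⟩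
    obtain ⟨⟨κ, hκ⟩, e⟩ := hxo
    replace e : κ (el zVec) = el x := e
    choose f hf1 hf2 using fun v => el_surj (κ (el v))
    have hadd : ∀ v w, f (v ^^^ w) = f v ^^^ f w := fun v w =>
      el_inj (hf1 _) (Nat.xor_lt_two_pow (n := 11) (hf1 v) (hf1 w)) (by rw [hf2, el_xor, map_mul, el_xor, hf2, hf2])
    have hfx : f zVec = x := el_inj (hf1 _) hx.1 (by rw [hf2, e])
    rw [← hcnt x hx.1, ← hcnt zVec z_lt, ← hfx]
    exact (count_eq hf1 (fun v hv w hw h => el_inj hv hw (κ.injective (by rw [← hf2, ← hf2, h])))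
      hadd (fun v hv => hsmul κ hκ v _ hv (hf1 v) (hf2 v).symm) z_lt).symm
  -- there is a conjugate of d in A besides d
  have hne : Nat.card X ≠ 1 := by
    intro h1
    obtain ⟨g, hgC, hgne⟩ := hnwc
    obtain ⟨x, hx⟩ := (hr.symm ▸ hgC : g * d * g⁻¹ ∈ ι.range)
    have hd2 : d * d = 1 := by rw [← pow_two, ← hd, pow_orderOf_eq_one]
    obtain ⟨u, hu⟩ := hinvol x (hι (by
      rw [map_mul, hx, map_one, show g * d * g⁻¹ * (g * d * g⁻¹) = g * (d * d) * g⁻¹ by group, hd2, mul_one,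
        mul_inv_cancel]))
    obtain ⟨v, hv, ev⟩ := el_surj ⟨_, hu⟩
    have hjv : j (el v) = ι (u * x * u⁻¹) := by rw [ev]; rfl
    have hX : v ∈ X := by
      refine ⟨hv, ?_⟩
      rw [hjv, map_mul, map_mul, map_inv, hx]
      exact (isConj_iff.mpr ⟨g, rfl⟩).trans (isConj_iff.mpr ⟨ι u, rfl⟩)
    have hvz : v ≠ zVec := by
      rintro rfl
      rw [hjz, map_mul, map_mul, map_inv, hx] at hjv
      refine hgne ?_
      have hcomm : Commute (ι u) d := (hC _).mp (hr ▸ ⟨u, rfl⟩)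
      rw [show g * d * g⁻¹ = (ι u)⁻¹ * (ι u * (g * d * g⁻¹) * (ι u)⁻¹) * ι u by group, ← hjv, mul_assoc, ← hcomm.eq,
        inv_mul_cancel_left]
    obtain ⟨⟨a, ha⟩, hall⟩ := Nat.card_eq_one_iff_exists.mp h1
    exact hvz (congrArg Subtype.val ((hall ⟨v, hX⟩).trans (hall ⟨zVec, hzX⟩).symm))
  have hopt := allBelow_spec opts_ok m hm
  rw [optOK, Bool.or_eq_true, memB_iff, List.any_eq_true] at hopt
  have hlist : m ∈ [0, 1, 2, 7, 31] := by
    refine hopt.resolve_right ?_
    rintro ⟨i, hi, hh⟩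
    rw [Bool.and_eq_true, Bool.not_eq_true'] at hh
    rw [List.mem_range] at hi
    exact Nat.ne_of_beq_eq_false hh.2 (hinv _ ((hbit i hi).mp hh.1))
  have hsz := sizes_ok
  simp only [List.map_cons, List.map_nil, List.cons.injEq, and_true] at hsz
  obtain ⟨s0, s1, s2, s7, s31⟩ := hsz
  have harith : ∀ N p : ℕ, p.Prime → 2 ^ 11 % p = 1 → (∀ i < 11, 2 ^ i % p = 1 → i = 0) → p ∣ N → ¬ p ^ 2 ∣ N →
      sylowTest N p = true → Nat.card H = N → False := fun N p hp h1 h2 h3 h4 h5 hN => by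
    letI : MulDistribMulAction H baseSub := MulDistribMulAction.compHom baseSub H.subtype
    exact not_faithful (A := baseSub) (H := H) (fun h hh => Subtype.ext (MulEquiv.ext hh))
      (baseSub_card.trans (by norm_num)) hp h1 h2 hN h3 h4 h5
  have hfinal : Nat.card X = 23 := by
    rw [hsize] at hne ⊢
    rw [hsize] at hcardH
    simp only [List.mem_cons, List.not_mem_nil, or_false] at hlist
    rcases hlist with rfl | rfl | rfl | rfl | rfl
    · exact absurd s0 hne
    · exact s1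
    · exact s2
    · rw [s7] at hcardH
      exact (harith _ 23 (by norm_num) (by norm_num) (by decide +kernel) (by norm_num) (by norm_num) test_276 hcardH).elim
    · rw [s31] at hcardH
      exact (harith _ 89 (by norm_num) (by norm_num) (by decide +kernel) (by norm_num) (by norm_num) test_2047 hcardH).elim
  rw [← hfinal, ← Nat.card_coe_set_eq]
  refine (Nat.card_eq_of_bijective (fun v : X => (⟨j (el v.1), hjmem _, v.2.2⟩ : {x : G | x ∈ A ∧ IsConj d x})) ⟨?_, ?_⟩).symm
  · intro a b h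
    exact Subtype.ext (hinjX a.2 b.2 (hj (congrArg Subtype.val h)))
  · rintro ⟨x, hx, hconj⟩
    obtain ⟨a, rfl⟩ := (hjr ▸ hx : x ∈ j.range)
    obtain ⟨v, hv, rfl⟩ := el_surj a
    exact ⟨⟨v, hv, hconj⟩, rfl⟩

end CfsgLib.Fi22Fusion
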